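import Cfsg.Agent.Lib.Solvable.ClassBound.Counting

/-!
# Blocks of imprimitivity of linear groups
-/

set_option autoImplicit false
set_option linter.unusedSectionVars false
set_option linter.style.haveILetI false

namespace CfsgLib.Solvable.ClassBound

open Subgroup Module

variable {F V : Type*} [Field F] [AddCommGroup V] [Module F V] [Finite V]

instance finite_linearEquiv : Finite (V ≃ₗ[F] V) :=
  Finite.of_injective (fun g : V ≃ₗ[F] V => (g : V → V)) DFunLike.coe_injective

/-- The image of a subspace. -/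
def img (g : V ≃ₗ[F] V) (B : Submodule F V) : Submodule F V := B.map (g : V →ₗ[F] V)

theorem mem_img {g : V ≃ₗ[F] V} {B : Submodule F V} {v : V} :
    v ∈ img g B ↔ ∃ b ∈ B, g b = v := Submodule.mem_map

theorem apply_mem_img (g : V ≃ₗ[F] V) {B : Submodule F V} {b : V} (hb : b ∈ B) : g b ∈ img g B :=
  mem_img.2 ⟨b, hb, rfl⟩

theorem img_mul (g h : V ≃ₗ[F] V) (B : Submodule F V) : img (g * h) B = img g (img h B) := by
  ext v
  simp only [mem_img]
  constructor
  · rintro ⟨b, hb, rfl⟩; exact ⟨h b, ⟨b, hb, rfl⟩, rfl⟩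
  · rintro ⟨_, ⟨b, hb, rfl⟩, rfl⟩; exact ⟨b, hb, rfl⟩

theorem img_one (B : Submodule F V) : img (1 : V ≃ₗ[F] V) B = B := by
  ext v
  simp [mem_img]

theorem img_mono (g : V ≃ₗ[F] V) {B C : Submodule F V} (h : B ≤ C) : img g B ≤ img g C :=
  Submodule.map_mono h

theorem finrank_img (g : V ≃ₗ[F] V) (B : Submodule F V) : finrank F (img g B) = finrank F B :=
  LinearEquiv.finrank_map_eq g B

variable (L : Subgroup (V ≃ₗ[F] V))

/-- Non-zero vectors are moved transitively up to spans. -/
def Irred : Prop :=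
  (∃ v : V, v ≠ 0) ∧ ∀ W : Submodule F V, (∀ g ∈ L, ∀ w ∈ W, g w ∈ W) → W = ⊥ ∨ W = ⊤

/-- The translates of a subspace. -/
def blocks (B : Submodule F V) : Set (Submodule F V) :=
  Set.range fun g : L => img (g : V ≃ₗ[F] V) B

/-- A system of imprimitivity. -/
structure IsBlock (B : Submodule F V) : Prop where
  ne : B ≠ ⊥
  span : ⨆ g : L, img (g : V ≃ₗ[F] V) B = ⊤
  card : (blocks L B).ncard * finrank F B ≤ finrank F V

variable {L}

theorem Irred.span (hL : Irred L) {B : Submodule F V} (hB : B ≠ ⊥) :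
    ⨆ g : L, img (g : V ≃ₗ[F] V) B = ⊤ := by
  refine (hL.2 _ fun g hg w hw => ?_).resolve_left fun e => hB (le_bot_iff.1 (e ▸ ?_))
  · have h1 : img g (⨆ g : L, img (g : V ≃ₗ[F] V) B) ≤ ⨆ g : L, img (g : V ≃ₗ[F] V) B := by
      rw [img, Submodule.map_iSup]
      refine iSup_le fun h => ?_
      exact le_trans (le_of_eq (img_mul g h B).symm) (le_iSup_of_le (⟨g, hg⟩ * h) le_rfl)
    exact h1 (apply_mem_img g hw)
  · exact le_iSup_of_le 1 (le_of_eq (img_one B).symm)

theorem Irred.top_isBlock (hL : Irred L) : IsBlock L ⊤ := by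
  have hne : (⊤ : Submodule F V) ≠ ⊥ := fun e => by
    obtain ⟨v, hv⟩ := hL.1
    exact hv ((Submodule.mem_bot F).1 (e ▸ Submodule.mem_top))
  refine ⟨hne, hL.span hne, ?_⟩
  have h1 : blocks L (⊤ : Submodule F V) = {⊤} := by
    refine Set.eq_singleton_iff_unique_mem.2 ⟨⟨1, img_one _⟩, ?_⟩
    rintro _ ⟨g, rfl⟩
    exact Submodule.map_top _ |>.trans (LinearMap.range_eq_top.2 (g : V ≃ₗ[F] V).surjective)
  rw [h1, Set.ncard_singleton, one_mul, finrank_top]

/-- The summation map of a family of subspaces. -/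
theorem finrank_le_sum [Finite F] {ι : Type*} [Fintype ι] (S : ι → Submodule F V)
    (h : ⊤ ≤ ⨆ i, S i) : finrank F V ≤ ∑ i, finrank F (S i) := by
  classical
  let Φ : (∀ i, S i) →ₗ[F] V := ∑ i, (Submodule.subtype (S i)).comp (LinearMap.proj i)
  have hsurj : LinearMap.range Φ = ⊤ := by
    refine eq_top_iff.2 (h.trans (iSup_le fun i v hv => ⟨Pi.single i ⟨v, hv⟩, ?_⟩))
    simp only [Φ, LinearMap.sum_apply, LinearMap.comp_apply, LinearMap.proj_apply,
      Submodule.subtype_apply]
    rw [Finset.sum_eq_single i]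
    · rw [Pi.single_eq_same]
    · intro j _ hj
      rw [Pi.single_eq_of_ne hj]
      rfl
    · exact fun hn => absurd (Finset.mem_univ _) hn
  have h1 := LinearMap.finrank_range_le Φ
  rwa [hsurj, finrank_top, Module.finrank_pi_fintype] at h1

namespace IsBlock

variable [Finite F] {B : Submodule F V} (hB : IsBlock L B)
include hB

/-- The decomposition along the translates is unique. -/
theorem coeff_unique [Fintype (blocks L B)] (u w : blocks L B → V) (hu : ∀ i : blocks L B, u i ∈ (i : Submodule F V))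
    (hw : ∀ i : blocks L B, w i ∈ (i : Submodule F V)) (h : ∑ i, u i = ∑ i, w i) : u = w := by
  classical
  let Φ : (∀ i : blocks L B, (i : Submodule F V)) →ₗ[F] V :=
    ∑ i : blocks L B, (Submodule.subtype (i : Submodule F V)).comp (LinearMap.proj i)
  have hΦ : ∀ x, Φ x = ∑ i, (x i : V) := fun x => by simp [Φ]
  have hsurj : Function.Surjective Φ := by
    rw [← LinearMap.range_eq_top, eq_top_iff, ← hB.span]
    refine iSup_le fun g v hv => ?_
    refine ⟨Pi.single (⟨_, g, rfl⟩ : blocks L B) ⟨v, hv⟩, ?_⟩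
    rw [hΦ, Finset.sum_eq_single (⟨_, g, rfl⟩ : blocks L B)]
    · rw [Pi.single_eq_same]
    · intro i _ hi
      rw [Pi.single_eq_of_ne hi]
      rfl
    · exact fun hn => absurd (Finset.mem_univ _) hn
  have hrank : finrank F (∀ i : blocks L B, (i : Submodule F V)) ≤ finrank F V := by
    rw [Module.finrank_pi_fintype]
    refine le_trans (le_of_eq ?_) hB.card
    rw [Finset.sum_const_nat (m := finrank F B), Finset.card_univ, ← Nat.card_eq_fintype_card,
      Nat.card_coe_set_eq]
    rintro ⟨_, g, rfl⟩ -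
    exact finrank_img _ B
  have hle := LinearMap.finrank_range_le Φ
  rw [LinearMap.range_eq_top.2 hsurj, finrank_top] at hle
  have hinj : Function.Injective Φ :=
    (LinearMap.injective_iff_surjective_of_finrank_eq_finrank (le_antisymm hrank hle)).2 hsurj
  have := hinj (a₁ := fun i => ⟨u i, hu i⟩) (a₂ := fun i => ⟨w i, hw i⟩) (by rw [hΦ, hΦ]; exact h)
  exact funext fun i => congrArg Subtype.val (congrFun this i)

end IsBlock

/-- The stabiliser of a subspace. -/
def blockStab (L : Subgroup (V ≃ₗ[F] V)) (B : Submodule F V) : Subgroup L where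
  carrier := {g | img (g : V ≃ₗ[F] V) B = B}
  one_mem' := img_one B
  mul_mem' {g h} hg hh := by
    show img ((g : V ≃ₗ[F] V) * (h : V ≃ₗ[F] V)) B = B
    rw [img_mul, hh, hg]
  inv_mem' {g} hg := by
    show img ((g : V ≃ₗ[F] V)⁻¹) B = B
    conv_lhs => rw [← hg]
    rw [← img_mul, inv_mul_cancel, img_one]

theorem mem_blockStab {B : Submodule F V} {g : L} :
    g ∈ blockStab L B ↔ img (g : V ≃ₗ[F] V) B = B := Iff.rfl

/-- The action of the stabiliser on its subspace. -/
def blockHom (L : Subgroup (V ≃ₗ[F] V)) (B : Submodule F V) : blockStab L B →* (B ≃ₗ[F] B) where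
  toFun g := LinearEquiv.ofSubmodules ((g : L) : V ≃ₗ[F] V) B B g.2
  map_one' := LinearEquiv.ext fun _ => Subtype.ext rfl
  map_mul' _ _ := LinearEquiv.ext fun _ => Subtype.ext rfl

theorem blockHom_apply {B : Submodule F V} (g : blockStab L B) (b : B) :
    ((blockHom L B g b : B) : V) = ((g : L) : V ≃ₗ[F] V) (b : V) := rfl

/-- The group induced on a subspace by its stabiliser. -/
def blockGroup (L : Subgroup (V ≃ₗ[F] V)) (B : Submodule F V) : Subgroup (B ≃ₗ[F] B) :=
  (blockHom L B).range

theorem index_blockStab_le (B : Submodule F V) :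
    (blockStab L B).index ≤ (blocks L B).ncard := by
  haveI : Finite (Submodule F V) :=
    Finite.of_injective (fun W : Submodule F V => (W : Set V)) SetLike.coe_injective
  rw [Subgroup.index, ← Nat.card_coe_set_eq]
  refine Nat.card_le_card_of_injective (fun q => ⟨img ((Quotient.out q : L) : V ≃ₗ[F] V) B, _, rfl⟩)
    fun q q' e => ?_
  rw [← Quotient.out_eq q, ← Quotient.out_eq q']
  refine QuotientGroup.eq.2 ?_
  rw [mem_blockStab, coe_mul, img_mul, Subgroup.coe_inv, show img ((Quotient.out q' : L) : V ≃ₗ[F] V) B = img ((Quotient.out q : L) : V ≃ₗ[F] V) B from (congrArg Subtype.val e).symm, ← img_mul,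
    inv_mul_cancel, img_one]

variable [Finite F]

theorem IsBlock.irred_blockGroup {B : Submodule F V} (hL : Irred L) (hB : IsBlock L B) :
    Irred (blockGroup L B) := by
  classical
  haveI : Finite (Submodule F V) :=
    Finite.of_injective (fun W : Submodule F V => (W : Set V)) SetLike.coe_injective
  haveI : Fintype (blocks L B) := Fintype.ofFinite _
  obtain ⟨b, hb, hb0⟩ := Submodule.exists_mem_ne_zero_of_ne_bot hB.ne
  refine ⟨⟨⟨b, hb⟩, fun e => hb0 (congrArg Subtype.val e)⟩, fun W hW => ?_⟩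
  by_cases hW0 : W = ⊥
  · exact Or.inl hW0
  right
  set W' := W.map B.subtype with hW'
  have hW'B : W' ≤ B := Submodule.map_subtype_le B W
  have hrep : ∀ i : blocks L B, ∃ g : L, img (g : V ≃ₗ[F] V) B = i := fun i => i.2
  choose rep hrep using hrep
  have hle : (⊤ : Submodule F V) ≤ ⨆ i : blocks L B, img (rep i : V ≃ₗ[F] V) W' := by
    rw [← hL.span (B := W') fun e => hW0 (Submodule.map_injective_of_injective
      B.injective_subtype (e.trans (Submodule.map_bot _).symm))]
    refine iSup_le fun g => le_iSup_of_le (⟨_, g, rfl⟩ : blocks L B) ?_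
    set i : blocks L B := ⟨_, g, rfl⟩
    intro v hv
    obtain ⟨w, hw, rfl⟩ := mem_img.1 hv
    obtain ⟨x, hx, rfl⟩ := hw
    have hn : ((rep i)⁻¹ * g) ∈ blockStab L B := by
      rw [mem_blockStab, coe_mul, img_mul, show img (g : V ≃ₗ[F] V) B = (i : Submodule F V) from rfl,
        ← hrep i, ← img_mul, Subgroup.coe_inv, inv_mul_cancel, img_one]
    refine mem_img.2 ⟨_, ⟨_, hW _ ⟨⟨_, hn⟩, rfl⟩ x hx, rfl⟩, ?_⟩
    show (rep i : V ≃ₗ[F] V) ((((rep i)⁻¹ * g : L) : V ≃ₗ[F] V) (x : V)) = _
    rw [← LinearEquiv.mul_apply, ← coe_mul, mul_inv_cancel_left]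
    rfl
  have h1 : finrank F V ≤ (blocks L B).ncard * finrank F W := by
    refine (finrank_le_sum _ hle).trans (le_of_eq ?_)
    rw [Finset.sum_const_nat (m := finrank F W), Finset.card_univ, ← Nat.card_eq_fintype_card,
      Nat.card_coe_set_eq]
    intro i _
    rw [finrank_img]
    exact (Submodule.equivMapOfInjective _ B.injective_subtype W).symm.finrank_eq
  have hpos : 0 < (blocks L B).ncard := (Set.ncard_pos (Set.toFinite _)).2 ⟨_, 1, rfl⟩
  exact Submodule.eq_top_of_finrank_eq (le_antisymm W.finrank_le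
    (Nat.le_of_mul_le_mul_left (hB.card.trans h1) hpos))

/-- Blocks of a block group are blocks. -/
theorem IsBlock.refine_block {B : Submodule F V} (hL : Irred L) (hB : IsBlock L B) {D : Submodule F B}
    (hD : IsBlock (blockGroup L B) D) :
    IsBlock L (D.map B.subtype) ∧ finrank F (D.map B.subtype) = finrank F D := by
  classical
  haveI : Finite (Submodule F V) :=
    Finite.of_injective (fun W : Submodule F V => (W : Set V)) SetLike.coe_injective
  haveI : Finite (Submodule F B) :=
    Finite.of_injective (fun W : Submodule F B => (W : Set B)) SetLike.coe_injective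
  have hne : D.map B.subtype ≠ ⊥ := fun e => hD.ne (Submodule.map_injective_of_injective
    B.injective_subtype (e.trans (Submodule.map_bot _).symm))
  have hr : finrank F (D.map B.subtype) = finrank F D :=
    (Submodule.equivMapOfInjective _ B.injective_subtype D).symm.finrank_eq
  refine ⟨⟨hne, hL.span hne, ?_⟩, hr⟩
  have hrep : ∀ i : blocks L B, ∃ g : L, img (g : V ≃ₗ[F] V) B = i := fun i => i.2
  choose rep hrep using hrep
  have hcount : (blocks L (D.map B.subtype)).ncard ≤
      (blocks L B).ncard * (blocks (blockGroup L B) D).ncard := by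
    rw [← Nat.card_coe_set_eq (blocks L B), ← Nat.card_coe_set_eq (blocks (blockGroup L B) D),
      ← Nat.card_prod, ← Nat.card_coe_set_eq]
    refine Nat.card_le_card_of_surjective
      (fun ij : blocks L B × blocks (blockGroup L B) D =>
        ⟨img (rep ij.1 : V ≃ₗ[F] V) ((ij.2 : Submodule F B).map B.subtype), ?_⟩) ?_
    · obtain ⟨i, _, ⟨⟨_, n, rfl⟩, rfl⟩⟩ := ij
      refine ⟨rep i * (n : L), ?_⟩
      dsimp only
      rw [coe_mul, img_mul]
      congr 1
      simp only [img, ← Submodule.map_comp]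
      rfl
    · rintro ⟨_, g, rfl⟩
      let i : blocks L B := ⟨_, g, rfl⟩
      have hn : ((rep i)⁻¹ * g) ∈ blockStab L B := by
        rw [mem_blockStab, coe_mul, img_mul, show img (g : V ≃ₗ[F] V) B = (i : Submodule F V) from rfl,
          ← hrep i, ← img_mul, Subgroup.coe_inv, inv_mul_cancel, img_one]
      refine ⟨(i, ⟨_, ⟨blockHom L B ⟨_, hn⟩, _, rfl⟩, rfl⟩), Subtype.ext ?_⟩
      show img (rep i : V ≃ₗ[F] V) _ = img (g : V ≃ₗ[F] V) _
      rw [show (g : V ≃ₗ[F] V) = (rep i : V ≃ₗ[F] V) * (((rep i)⁻¹ * g : L) : V ≃ₗ[F] V) by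
        rw [← coe_mul, mul_inv_cancel_left], img_mul]
      congr 1
      simp only [img, ← Submodule.map_comp]
      rfl
  calc (blocks L (D.map B.subtype)).ncard * finrank F (D.map B.subtype)
      ≤ (blocks L B).ncard * ((blocks (blockGroup L B) D).ncard * finrank F D) := by
        rw [hr, ← mul_assoc]; exact Nat.mul_le_mul_right _ hcount
    _ ≤ (blocks L B).ncard * finrank F B := Nat.mul_le_mul_left _ hD.card
    _ ≤ finrank F V := hB.card

/-- The number of orbits on non-zero vectors. -/
noncomputable def vecOrbits (L : Subgroup (V ≃ₗ[F] V)) : ℕ := orbitsOn L ({0}ᶜ : Set V)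

/-- There are at least as many orbits as translates times orbits on a block. -/
theorem IsBlock.card_mul_vecOrbits_le {B : Submodule F V} (hB : IsBlock L B) :
    (blocks L B).ncard * vecOrbits (blockGroup L B) ≤ vecOrbits L := by
  classical
  haveI : Finite (Submodule F V) :=
    Finite.of_injective (fun W : Submodule F V => (W : Set V)) SetLike.coe_injective
  haveI : Fintype (blocks L B) := Fintype.ofFinite _
  set t := (blocks L B).ncard with ht
  set O := (Quotient.mk (MulAction.orbitRel (blockGroup L B) B)) '' ({0}ᶜ : Set B) with hO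
  have hrepO : ∀ q : O, ∃ b : B, b ≠ 0 ∧ Quotient.mk (MulAction.orbitRel (blockGroup L B) B) b = q :=
    fun q => by
      obtain ⟨b, hb, e⟩ := q.2
      exact ⟨b, hb, e⟩
  choose β hβ hβe using hrepO
  have hrep : ∀ i : blocks L B, ∃ g : L, img (g : V ≃ₗ[F] V) B = i := fun i => i.2
  choose rep hrep using hrep
  let e : Fin t ≃ blocks L B :=
    (Fintype.equivFinOfCardEq (by rw [ht, ← Nat.card_coe_set_eq, Nat.card_eq_fintype_card])).symm
  let u : Fin t × O → blocks L B → V := fun jq i =>
    if (e.symm i : ℕ) ≤ (jq.1 : ℕ) then (rep i : V ≃ₗ[F] V) (β jq.2 : V) else 0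
  have hu : ∀ (jq : Fin t × O) (i : blocks L B), u jq i ∈ (i : Submodule F V) := fun jq i => by
    simp only [u]
    split_ifs
    · have := apply_mem_img (rep i : V ≃ₗ[F] V) (β jq.2).2
      rwa [hrep i] at this
    · exact zero_mem _
  have hsupp : ∀ jq i, u jq i ≠ 0 ↔ (e.symm i : ℕ) ≤ (jq.1 : ℕ) := fun jq i => by
    simp only [u]
    split_ifs with h
    · exact ⟨fun _ => h, fun _ hz => hβ jq.2 (Subtype.ext ((map_eq_zero_iff _
        (LinearEquiv.injective _)).1 hz))⟩
    · simp [h]
  have hne : ∀ jq, ∑ i, u jq i ≠ 0 := fun jq hz => by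
    have := congrFun (hB.coeff_unique (u jq) (fun _ => 0) (hu jq) (fun _ => zero_mem _)
      (by simpa using hz)) (e jq.1)
    exact (hsupp jq (e jq.1)).2 (by simp) this
  have hO' : Nat.card O = vecOrbits (blockGroup L B) := Nat.card_coe_set_eq _
  rw [← hO', ← Nat.card_fin t, ← Nat.card_prod]
  refine card_le_orbitsOn (fun jq => ∑ i, u jq i) (fun jq => hne jq) ?_
  rintro ⟨j, q⟩ ⟨j', q'⟩ ⟨c, hc⟩
  have hcm : ∀ i : blocks L B, img (c : V ≃ₗ[F] V) i ∈ blocks L B := fun i => by
    refine ⟨c * rep i, ?_⟩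
    show img ((c * rep i : L) : V ≃ₗ[F] V) B = _
    rw [coe_mul, img_mul, hrep i]
  let π : blocks L B → blocks L B := fun i => ⟨_, hcm i⟩
  have hπ : Function.Injective π := fun i i' h => by
    have := congrArg (fun W : blocks L B => img (c : V ≃ₗ[F] V)⁻¹ (W : Submodule F V)) h
    simp only [π, ← img_mul, inv_mul_cancel, img_one] at this
    exact Subtype.ext this
  let πe : blocks L B ≃ blocks L B := Equiv.ofBijective π (Finite.injective_iff_bijective.1 hπ)
  have huniq := hB.coeff_unique (fun i => (c : V ≃ₗ[F] V) (u (j, q) (πe.symm i))) (u (j', q'))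
    (fun i => by
      have := apply_mem_img (c : V ≃ₗ[F] V) (hu (j, q) (πe.symm i))
      rwa [show img (c : V ≃ₗ[F] V) (πe.symm i : Submodule F V) = (πe (πe.symm i) : Submodule F V)
        from rfl, Equiv.apply_symm_apply] at this)
    (hu _) (by
      rw [Equiv.sum_comp πe.symm (fun i => (c : V ≃ₗ[F] V) (u (j, q) i)), ← map_sum]
      exact hc)
  have hsize : ∀ jq : Fin t × O, (Finset.univ.filter fun i => u jq i ≠ 0).card = (jq.1 : ℕ) + 1 := fun jq => by
    rw [show (Finset.univ.filter fun i => u jq i ≠ 0) = (Finset.Iic jq.1).map e.toEmbedding by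
      ext i
      simp only [Finset.mem_filter, Finset.mem_univ, true_and, Finset.mem_map_equiv, Finset.mem_Iic,
        hsupp]
      rfl, Finset.card_map, Fin.card_Iic]
  have hjj : j = j' := by
    refine Fin.ext (Nat.succ_injective ?_)
    show (j : ℕ) + 1 = (j' : ℕ) + 1
    have e1 := hsize (j, q)
    have e2 := hsize (j', q')
    dsimp only at e1 e2
    rw [← e1, ← e2, ← huniq]
    refine Finset.card_equiv πe fun i => ?_
    simp
  subst hjj
  have h0 : u (j, q') (πe (e j)) = (c : V ≃ₗ[F] V) (u (j, q) (e j)) := by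
    rw [← huniq]; show (c : V ≃ₗ[F] V) (u (j, q) (πe.symm (πe (e j)))) = _; rw [Equiv.symm_apply_apply]
  have hej : u (j, q) (e j) = (rep (e j) : V ≃ₗ[F] V) (β q : V) := if_pos (by simp)
  have hne' : u (j, q') (πe (e j)) ≠ 0 := by
    rw [h0, Ne, map_eq_zero_iff _ (LinearEquiv.injective _)]
    exact (hsupp _ _).2 (by simp)
  rw [show u (j, q') (πe (e j)) = (rep (πe (e j)) : V ≃ₗ[F] V) (β q' : V) from
    if_pos ((hsupp _ _).1 hne'), hej] at h0
  set n : L := (rep (πe (e j)))⁻¹ * (c * rep (e j)) with hn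
  have hnmem : n ∈ blockStab L B := by
    rw [mem_blockStab, hn, coe_mul, coe_mul, img_mul, img_mul, hrep,
      show img (c : V ≃ₗ[F] V) (e j : Submodule F V) = (πe (e j) : Submodule F V) from rfl,
      ← hrep (πe (e j)), ← img_mul, Subgroup.coe_inv, inv_mul_cancel, img_one]
  have hact : blockHom L B ⟨n, hnmem⟩ (β q) = β q' := Subtype.ext (by
    show (n : V ≃ₗ[F] V) (β q : V) = _
    rw [hn, coe_mul, LinearEquiv.mul_apply, coe_mul, LinearEquiv.mul_apply, ← h0,
      ← LinearEquiv.mul_apply, ← coe_mul, inv_mul_cancel]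
    rfl)
  exact Prod.ext rfl (Subtype.ext (by
    show q.1 = q'.1
    rw [← hβe q, ← hβe q']
    exact (Quotient.sound (MulAction.orbitRel_apply.2
      ⟨⟨_, _, rfl⟩, hact⟩)).symm))

/-- The product of the class number and the number of orbits does not increase on blocks. -/
theorem IsBlock.classNum_mul_vecOrbits_le {B : Submodule F V} (hB : IsBlock L B) :
    classNum (blockGroup L B) * vecOrbits (blockGroup L B) ≤ classNum L * vecOrbits L := by
  have h1 : classNum (blockGroup L B) ≤ (blocks L B).ncard * classNum L :=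
    (classNum_le_of_surjective _ (blockHom L B).rangeRestrict_surjective).trans
      ((classNum_subgroup_le _).trans (Nat.mul_le_mul_right _ (index_blockStab_le B)))
  calc _ ≤ (blocks L B).ncard * classNum L * vecOrbits (blockGroup L B) := Nat.mul_le_mul_right _ h1
    _ = classNum L * ((blocks L B).ncard * vecOrbits (blockGroup L B)) := by ring
    _ ≤ _ := Nat.mul_le_mul_left _ hB.card_mul_vecOrbits_le

theorem one_le_vecOrbits (hL : Irred L) : 1 ≤ vecOrbits L := by
  obtain ⟨v, hv⟩ := hL.1
  exact (Set.ncard_pos (Set.toFinite _)).2 ⟨_, v, hv, rfl⟩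

/-- Different translates meet trivially. -/
theorem IsBlock.eq_of_mem {B : Submodule F V} (hB : IsBlock L B) (i k : blocks L B) {v : V}
    (hi : v ∈ (i : Submodule F V)) (hk : v ∈ (k : Submodule F V)) (hv : v ≠ 0) : i = k := by
  classical
  haveI : Finite (Submodule F V) :=
    Finite.of_injective (fun W : Submodule F V => (W : Set V)) SetLike.coe_injective
  haveI : Fintype (blocks L B) := Fintype.ofFinite _
  by_contra hne
  have h := congrFun (hB.coeff_unique (Pi.single i v) (Pi.single k v) (fun j => ?_) (fun j => ?_)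
    (by simp)) i
  · rw [Pi.single_eq_same, Pi.single_eq_of_ne hne] at h
    exact hv h
  · rcases eq_or_ne j i with rfl | hj
    · rwa [Pi.single_eq_same]
    · rw [Pi.single_eq_of_ne hj]; exact zero_mem _
  · rcases eq_or_ne j k with rfl | hj
    · rwa [Pi.single_eq_same]
    · rw [Pi.single_eq_of_ne hj]; exact zero_mem _

/-- A block of least dimension has a block group without proper blocks. -/
theorem exists_minimal_block (hL : Irred L) :
    ∃ B : Submodule F V, IsBlock L B ∧
      ∀ D : Submodule F B, IsBlock (blockGroup L B) D → D = ⊤ := by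
  classical
  haveI : Module.Finite F V := Module.Finite.of_finite
  have hex : ∃ n, ∃ B : Submodule F V, IsBlock L B ∧ finrank F B = n :=
    ⟨_, ⊤, hL.top_isBlock, rfl⟩
  obtain ⟨B, hB, hn⟩ := Nat.find_spec hex
  refine ⟨B, hB, fun D hD => ?_⟩
  obtain ⟨h1, h2⟩ := hB.refine_block hL hD
  exact Submodule.eq_top_of_finrank_eq
    (le_antisymm D.finrank_le (hn ▸ Nat.find_min' hex ⟨_, h1, h2⟩))

end CfsgLib.Solvable.ClassBound
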