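import Mathlib

/-!
# Lower bounds for numbers of classes and of orbits

Elementary inequalities used in bounding the class number of a solvable group from below.
-/

set_option autoImplicit false

namespace CfsgLib.Solvable.ClassBound

open Subgroup

section Classes

variable {G : Type*} [Group G] [Finite G]

/-- The class number. -/
noncomputable def classNum (G : Type*) [Group G] : ℕ := Nat.card (ConjClasses G)

theorem classNum_pos : 0 < classNum G :=
  haveI : Nonempty (ConjClasses G) := ⟨ConjClasses.mk 1⟩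
  Nat.card_pos

theorem classNum_le_of_surjective {H : Type*} [Group H] [Finite H] (f : G →* H)
    (hf : Function.Surjective f) : classNum H ≤ classNum G :=
  Nat.card_le_card_of_surjective _ (ConjClasses.map_surjective hf)

theorem classNum_of_comm (h : ∀ a b : G, a * b = b * a) : classNum G = Nat.card G := by
  refine (Nat.card_congr (Equiv.ofBijective ConjClasses.mk ⟨fun a b e => ?_, ConjClasses.mk_surjective⟩)).symm
  obtain ⟨c, hc⟩ := isConj_iff.1 (ConjClasses.mk_eq_mk_iff_isConj.1 e)
  rw [← hc, h c a, mul_inv_cancel_right]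

/-- A subgroup has at most index times as many classes. -/
theorem classNum_subgroup_le (H : Subgroup G) : classNum H ≤ H.index * classNum G := by
  have h := H.commProb_subgroup_le
  rw [commProb_def', commProb_def'] at h
  have hH : (0 : ℚ) < Nat.card H := Nat.cast_pos.2 Nat.card_pos
  have hi : (0 : ℚ) < H.index := Nat.cast_pos.2 (Nat.pos_of_ne_zero index_ne_zero_of_finite)
  have hc : (Nat.card G : ℚ) = Nat.card H * H.index := by exact_mod_cast H.card_mul_index.symm
  rw [hc, div_mul_eq_mul_div, div_le_div_iff₀ hH (mul_pos hH hi)] at h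
  have : (classNum H : ℚ) ≤ H.index * classNum G := by
    refine le_of_mul_le_mul_right (a := (Nat.card H : ℚ) * H.index) ?_ (mul_pos hH hi)
    unfold classNum
    calc _ ≤ _ := h
      _ = _ := by ring
  exact_mod_cast this

/-- The bound through an abelian subgroup. -/
theorem card_le_index_mul (A : Subgroup G) (hA : ∀ a ∈ A, ∀ b ∈ A, a * b = b * a) :
    Nat.card A ≤ A.index * classNum G := by
  rw [← classNum_of_comm (G := A) fun a b => Subtype.ext (hA a a.2 b b.2)]
  exact classNum_subgroup_le A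

/-- Classes of a quotient and classes inside the kernel. -/
theorem classNum_quotient_add_le (C : Subgroup G) [C.Normal] (s : Set (ConjClasses G))
    (hs : ∀ g : G, ConjClasses.mk g ∈ s → g ∈ C ∧ g ≠ 1) :
    classNum (G ⧸ C) + s.ncard ≤ classNum G := by
  classical
  set f := ConjClasses.map (QuotientGroup.mk' C) with hf
  obtain ⟨sec, hsec⟩ :=
    (ConjClasses.map_surjective (f := QuotientGroup.mk' C) (QuotientGroup.mk'_surjective C)).hasRightInverse
  set t : Set (ConjClasses G) :=
    insert (ConjClasses.mk 1) (sec '' {q | q ≠ ConjClasses.mk 1}) with ht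
  have hdis : Disjoint t s := by
    refine Set.disjoint_left.2 ?_
    rintro c (rfl | ⟨q, hq, rfl⟩) hc
    · exact (hs 1 hc).2 rfl
    · obtain ⟨g, hg⟩ := ConjClasses.mk_surjective (sec q)
      rw [← hg] at hc
      refine hq ?_
      rw [← hsec q, ← hg]
      show ConjClasses.mk (QuotientGroup.mk' C g) = _
      rw [(QuotientGroup.eq_one_iff g).2 (hs g hc).1 |> fun e => (show QuotientGroup.mk' C g = 1 from e)]
  have hcard : t.ncard = classNum (G ⧸ C) := by
    rw [ht, Set.ncard_insert_of_notMem, Set.ncard_image_of_injective _ hsec.injective]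
    · rw [show {q : ConjClasses (G ⧸ C) | q ≠ ConjClasses.mk 1} = {ConjClasses.mk 1}ᶜ from rfl,
        Set.ncard_compl, Set.ncard_singleton]
      exact Nat.sub_add_cancel classNum_pos
    · rintro ⟨q, hq, e⟩
      exact hq (by rw [← hsec q, e]; rfl)
  calc classNum (G ⧸ C) + s.ncard = (t ∪ s).ncard := by rw [Set.ncard_union_eq hdis, hcard]
    _ ≤ classNum G := by
      rw [classNum, ← Set.ncard_univ]
      exact Set.ncard_le_ncard (Set.subset_univ _)

end Classes

section Orbits

variable {L X : Type*} [Group L] [Finite L] [MulAction L X] [Finite X]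

/-- The number of orbits meeting a set. -/
noncomputable def orbitsOn (L : Type*) {X : Type*} [Group L] [MulAction L X] (Y : Set X) : ℕ :=
  ((Quotient.mk (MulAction.orbitRel L X)) '' Y).ncard

theorem orbitsOn_mono {Y Z : Set X} (h : Y ⊆ Z) : orbitsOn L Y ≤ orbitsOn L Z :=
  Set.ncard_le_ncard (Set.image_mono h)

/-- An invariant separates orbits. -/
theorem card_le_orbitsOn {ι : Type*} {Y : Set X} (φ : ι → X) (hφ : ∀ i, φ i ∈ Y)
    (hinj : ∀ i j, φ j ∈ MulAction.orbit L (φ i) → i = j) : Nat.card ι ≤ orbitsOn L Y := by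
  rw [orbitsOn, ← Nat.card_coe_set_eq]
  refine Nat.card_le_card_of_injective (fun i => ⟨_, φ i, hφ i, rfl⟩) fun i j e => ?_
  exact (hinj j i (MulAction.orbitRel_apply.1 (Quotient.exact (congrArg Subtype.val e)))).symm

/-- If related elements of `Y` are related by a subgroup then `Y` meets many orbits. -/
theorem ncard_le_orbitsOn_mul {Y Z : Set X} (hYZ : Y ⊆ Z) (N : Subgroup L)
    (h : ∀ y ∈ Y, ∀ g : L, g • y ∈ Y → ∃ n ∈ N, n • y = g • y) {M : Type*} [Finite M]
    (π : N → M) (hπ : ∀ n n' : N, π n = π n' → ∀ y ∈ Y, (n : L) • y = (n' : L) • y) :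
    Y.ncard ≤ orbitsOn L Z * Nat.card M := by
  classical
  haveI : Fintype X := Fintype.ofFinite X
  haveI : Fintype M := Fintype.ofFinite M
  refine le_trans ?_ (Nat.mul_le_mul_right _ (orbitsOn_mono hYZ))
  rw [orbitsOn, Set.ncard_eq_toFinset_card', Set.ncard_eq_toFinset_card', Set.toFinset_image,
    mul_comm]
  refine Finset.card_le_mul_card_image _ _ fun q hq => ?_
  obtain ⟨y₀, hy₀, rfl⟩ := Finset.mem_image.1 hq
  rw [Set.mem_toFinset] at hy₀
  have hn : ∀ y : X, y ∈ Y ∧ y ∈ MulAction.orbit L y₀ → ∃ n : N, (n : L) • y₀ = y := by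
    rintro y ⟨hy, g, rfl⟩
    obtain ⟨n, hn, e⟩ := h y₀ hy₀ g hy
    exact ⟨⟨n, hn⟩, e⟩
  choose n hn using hn
  refine le_trans (le_trans ?_ (Finset.card_univ (α := M)).le) Nat.card_eq_fintype_card.ge
  refine Finset.card_le_card_of_injOn (fun y => if hy : y ∈ Y ∧ y ∈ MulAction.orbit L y₀ then
    π (n y hy) else π 1) (fun y _ => ?_) fun y hy y' hy' e => ?_
  · dsimp only
    exact Finset.mem_univ _
  · simp only [Finset.coe_filter, Set.mem_toFinset, Set.mem_setOf_eq] at hy hy'
    have hyo : y ∈ Y ∧ y ∈ MulAction.orbit L y₀ :=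
      ⟨hy.1, MulAction.orbitRel_apply.1 (Quotient.exact hy.2)⟩
    have hyo' : y' ∈ Y ∧ y' ∈ MulAction.orbit L y₀ :=
      ⟨hy'.1, MulAction.orbitRel_apply.1 (Quotient.exact hy'.2)⟩
    dsimp only at e
    rw [dif_pos hyo, dif_pos hyo'] at e
    rw [← hn y hyo, ← hn y' hyo', hπ _ _ e y₀ hy₀]

theorem ncard_le_orbitsOn_mul_card {Y Z : Set X} (hYZ : Y ⊆ Z) :
    Y.ncard ≤ orbitsOn L Z * Nat.card L := by
  refine (ncard_le_orbitsOn_mul (L := L) hYZ (⊤ : Subgroup L)
    (fun y _ g _ => ⟨g, mem_top g, rfl⟩) (fun n => (n : L)) fun n n' e y _ => by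
      rw [Subtype.ext e]).trans le_rfl

end Orbits

end CfsgLib.Solvable.ClassBound
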