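import Cfsg.Agent.Lib.Solvable.ClassBound.Primitive

/-!
# Classes and orbits of a group with several independent irreducible constituents
-/

set_option autoImplicit false
set_option linter.unusedSectionVars false
set_option linter.style.haveILetI false

namespace CfsgLib.Solvable.ClassBound

open Subgroup Module

variable {C X : Type*} [Group C] [Finite C] [MulAction C X] [Finite X]
variable {K U : Type*} [Field K] [Finite K] [AddCommGroup U] [Module K U] [Finite U]
variable {ι : Type*} [Fintype ι]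

/-- The bound through independent constituents. -/
theorem cube_bound {r : ℕ} [Fact r.Prime] [CharP K r] (M : Subgroup (U ≃ₗ[K] U))
    [Group.IsSolvable M] (hM : Irred M) (φ : ι → C →* M) (hφ : ∀ i, Function.Surjective (φ i))
    (Φ : (ι → U) → X) (hΦ : Function.Injective Φ)
    (hequiv : ∀ (c : C) (u : ι → U), c • Φ u = Φ fun i => (φ i c : U ≃ₗ[K] U) (u i))
    [Nonempty ι] (hq : 729 ≤ Nat.card K) :
    (Nat.card K - 1) ^ Fintype.card ι ≤ classNum C * orbitsOn C ({Φ 0}ᶜ : Set X) ^ 2 := by
  classical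
  haveI : Module.Finite K U := Module.Finite.of_finite
  haveI : Finite (Submodule K U) :=
    Finite.of_injective (fun W : Submodule K U => (W : Set U)) SetLike.coe_injective
  set m := Fintype.card ι with hm
  set q := Nat.card K
  set N := orbitsOn C ({Φ 0}ᶜ : Set X) with hN
  obtain ⟨B, hB, hBprim⟩ := exists_minimal_block hM
  haveI : Group.IsSolvable (blockGroup M B) :=
    Group.isSolvable_of_surjective (blockHom M B).rangeRestrict_surjective
  obtain ⟨A, h, w, hA, hhw, hh, hw, -, hidx⟩ :=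
    exists_abelian_of_primitive (r := r) (hB.irred_blockGroup hM) hBprim
  set t := (blocks M B).ncard with ht
  set b := finrank K B with hb
  set I := h * indexBound w with hI
  have hb1 : 1 ≤ b := hhw ▸ Nat.mul_pos hh hw
  have hcomp : ∀ (u v : ι → U) (c : C), c • Φ u = Φ v → ∀ i, (φ i c : U ≃ₗ[K] U) (u i) = v i :=
    fun u v c e i => by
      rw [hequiv] at e
      exact congrFun (hΦ e) i
  have hne0 : ∀ u : ι → U, (∀ i, u i ≠ 0) → Φ u ∈ ({Φ 0}ᶜ : Set X) := fun u hu h0 => by
    obtain ⟨i⟩ := ‹Nonempty ι›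
    exact hu i (congrFun (hΦ h0) i)
  have h1 : t ^ m ≤ N := by
    refine le_trans (Nat.pow_le_pow_left ?_ m) ?_ (b := vecOrbits M ^ m)
    · exact le_trans (Nat.le_mul_of_pos_right _ (one_le_vecOrbits (hB.irred_blockGroup hM)))
        hB.card_mul_vecOrbits_le
    set O := (Quotient.mk (MulAction.orbitRel M U)) '' ({0}ᶜ : Set U)
    have hrep : ∀ o : O, ∃ u : U, u ≠ 0 ∧ Quotient.mk (MulAction.orbitRel M U) u = o := fun o => by
      obtain ⟨u, hu, e⟩ := o.2
      exact ⟨u, hu, e⟩
    choose β hβ hβe using hrep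
    rw [show vecOrbits M = Nat.card O from (Nat.card_coe_set_eq _).symm, hm,
      ← Nat.card_eq_fintype_card, ← Nat.card_fun]
    refine card_le_orbitsOn (fun J : ι → O => Φ fun i => β (J i))
      (fun J => hne0 _ fun i => hβ _) fun J J' e => funext fun i => ?_
    obtain ⟨c, hc⟩ := e
    refine Subtype.ext ?_
    rw [← hβe (J i), ← hβe (J' i)]
    exact (Quotient.sound (MulAction.orbitRel_apply.2 ⟨φ i c, hcomp _ _ c hc i⟩)).symm
  set S : Subgroup C := ⨅ i, (blockStab M B).comap (φ i) with hS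
  have h2 : S.index ≤ t ^ m := by
    refine (index_iInf_le _).trans ?_
    rw [hm, ← Finset.card_univ, ← Finset.prod_const]
    refine Finset.prod_le_prod' fun i _ => ?_
    rw [index_comap_of_surjective _ (hφ i)]
    exact index_blockStab_le B
  have hSmem : ∀ (s : S) (i : ι), φ i (s : C) ∈ blockStab M B := fun s i =>
    (mem_iInf.1 s.2) i
  let ψ : S →* (ι → blockGroup M B) :=
    MonoidHom.pi fun i => (blockHom M B).rangeRestrict.comp
      (((φ i).comp S.subtype).codRestrict (blockStab M B) fun s => hSmem s i)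
  set T := ψ.range with hT
  have h3 : classNum T ≤ t ^ m * classNum C :=
    (classNum_le_of_surjective _ ψ.rangeRestrict_surjective).trans
      ((classNum_subgroup_le S).trans (Nat.mul_le_mul_right _ h2))
  set A' : Subgroup (ι → blockGroup M B) := ⨅ i, A.comap (Pi.evalMonoidHom (fun _ => blockGroup M B) i)
    with hA'
  have hA'c : ∀ a ∈ A', ∀ a' ∈ A', a * a' = a' * a := fun a ha a' ha' => funext fun i =>
    hA _ (mem_iInf.1 ha i) _ (mem_iInf.1 ha' i)
  have hA'i : (A'.subgroupOf T).index ≤ I ^ m := by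
    refine le_trans (Subgroup.relIndex_le_of_le_right le_top ?_) ?_ (b := A'.relIndex ⊤)
    · rw [relIndex_top_right]; exact index_ne_zero_of_finite
    rw [relIndex_top_right]
    refine (index_iInf_le _).trans ?_
    rw [hm, ← Finset.card_univ, ← Finset.prod_const]
    refine Finset.prod_le_prod' fun i _ => ?_
    rw [index_comap_of_surjective _ (Function.surjective_eval i)]
    exact hidx
  have h4 : Nat.card T ≤ I ^ m * I ^ m * classNum T := by
    rw [← (A'.subgroupOf T).card_mul_index]
    refine (Nat.mul_le_mul ((card_le_index_mul _ fun a ha a' ha' => Subtype.ext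
      (hA'c _ (mem_subgroupOf.1 ha) _ (mem_subgroupOf.1 ha'))).trans
        (Nat.mul_le_mul_right _ hA'i)) hA'i).trans (le_of_eq ?_)
    ring
  set Y : Set X := Set.range fun u : ι → {v : B // v ≠ 0} => Φ fun i => ((u i : B) : U) with hY
  have hYcard : Y.ncard = (q ^ b - 1) ^ m := by
    rw [hY, ← Nat.card_coe_set_eq, ← Nat.card_congr (Equiv.ofInjective _ ?_), Nat.card_fun,
      Nat.card_eq_fintype_card (α := ι)]
    · congr 1
      show Nat.card (({0}ᶜ : Set B) : Type _) = _
      rw [Nat.card_coe_set_eq, Set.ncard_compl, Set.ncard_singleton,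
        Module.natCard_eq_pow_finrank (K := K) (V := B)]
    · intro u v e
      exact funext fun i => Subtype.ext (Subtype.ext (congrFun (hΦ e) i))
  have h5 : Y.ncard ≤ N * Nat.card T := by
    refine ncard_le_orbitsOn_mul ?_ S ?_ ψ.rangeRestrict ?_
    · rintro _ ⟨u, rfl⟩
      exact hne0 _ fun i h0 => (u i).2 (Subtype.ext h0)
    · rintro _ ⟨u, rfl⟩ c ⟨v, hv⟩
      refine ⟨c, mem_iInf.2 fun i => ?_, rfl⟩
      rw [mem_comap, mem_blockStab]
      have hmem : ((v i : B) : U) ∈ img (φ i c : U ≃ₗ[K] U) B :=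
        mem_img.2 ⟨_, (u i : B).2, hcomp _ _ c hv.symm i⟩
      exact congrArg Subtype.val (hB.eq_of_mem ⟨_, φ i c, rfl⟩ ⟨B, 1, img_one B⟩ hmem (v i : B).2
        fun h0 => (v i).2 (Subtype.ext h0))
    · rintro n n' e _ ⟨u, rfl⟩
      rw [hequiv, hequiv]
      refine congrArg Φ (funext fun i => ?_)
      have h6 := congrArg (fun f : ι → blockGroup M B => ((f i : blockGroup M B) : B ≃ₗ[K] B) (u i : B))
        (congrArg Subtype.val e)
      exact congrArg Subtype.val h6
  have hI27 : I ≤ 27 ^ (b - 1) := hhw ▸ mul_indexBound_le hh hw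
  have hbound : (q - 1) * (I * I) ≤ q ^ b - 1 := by
    calc (q - 1) * (I * I) ≤ (q - 1) * (27 ^ (b - 1) * 27 ^ (b - 1)) :=
          Nat.mul_le_mul_left _ (Nat.mul_le_mul hI27 hI27)
      _ ≤ (q - 1) * q ^ (b - 1) := by
          rw [← mul_pow]; exact Nat.mul_le_mul_left _ (Nat.pow_le_pow_left (by omega) _)
      _ ≤ q ^ b - 1 := by
          rw [Nat.sub_mul, one_mul, ← pow_succ', Nat.sub_add_cancel hb1]
          have : 1 ≤ q ^ (b - 1) := Nat.one_le_pow _ _ (by omega)
          omega
  have hIpos : 0 < (I * I) ^ m := by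
    have h7 : 0 < indexBound w := Nat.mul_pos (Nat.pow_pos (by omega)) (by omega)
    exact Nat.pow_pos (Nat.mul_pos (Nat.mul_pos (by omega) h7) (Nat.mul_pos (by omega) h7))
  refine Nat.le_of_mul_le_mul_left ?_ hIpos
  calc (I * I) ^ m * (q - 1) ^ m = ((q - 1) * (I * I)) ^ m := by simp only [mul_pow]; ring
    _ ≤ (q ^ b - 1) ^ m := Nat.pow_le_pow_left hbound m
    _ ≤ N * Nat.card T := hYcard ▸ h5
    _ ≤ N * (I ^ m * I ^ m * (t ^ m * classNum C)) :=
      Nat.mul_le_mul_left _ (h4.trans (Nat.mul_le_mul_left _ h3))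
    _ ≤ N * (I ^ m * I ^ m * (N * classNum C)) :=
      Nat.mul_le_mul_left _ (Nat.mul_le_mul_left _ (Nat.mul_le_mul_right _ h1))
    _ = _ := by rw [mul_pow, sq]; ring

end CfsgLib.Solvable.ClassBound
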