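import Cfsg.Agent.Lib.Solvable.ClassBound.Cube

/-!
# A normal subgroup of prime order with a large automiser
-/

set_option autoImplicit false
set_option linter.unusedSectionVars false
set_option linter.style.haveILetI false

namespace CfsgLib.Solvable.ClassBound

open Subgroup Module Polynomial

/-- Orbits of a subgroup. -/
theorem orbitsOn_subgroup_le {G X : Type*} [Group G] [Finite G] [MulAction G X] [Finite X]
    (C : Subgroup G) (Y : Set X) : orbitsOn C Y ≤ C.index * orbitsOn G Y := by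
  classical
  rw [Subgroup.index, mul_comm, orbitsOn, orbitsOn, ← Nat.card_coe_set_eq, ← Nat.card_coe_set_eq,
    ← Nat.card_prod]
  have hrep : ∀ q : Quotient.mk (MulAction.orbitRel C X) '' Y,
      ∃ y ∈ Y, Quotient.mk (MulAction.orbitRel C X) y = q := fun q => q.2
  choose y hy hq using hrep
  have hbase : ∀ o : Quotient.mk (MulAction.orbitRel G X) '' Y, ∃ z : X,
      Quotient.mk (MulAction.orbitRel G X) z = o := fun o => by
    obtain ⟨z, -, e⟩ := o.2
    exact ⟨z, e⟩
  choose z hz using hbase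
  let O : Quotient.mk (MulAction.orbitRel C X) '' Y → Quotient.mk (MulAction.orbitRel G X) '' Y :=
    fun q => ⟨_, y q, hy q, rfl⟩
  have hg : ∀ q, ∃ g : G, g • z (O q) = y q := fun q =>
    MulAction.orbitRel_apply.1 (Quotient.exact (hz (O q)).symm)
  choose g hg using hg
  refine Nat.card_le_card_of_injective (fun q => (O q, (((g q)⁻¹ : G) : G ⧸ C))) fun a b e => ?_
  simp only [Prod.mk.injEq] at e
  have hc : g a * (g b)⁻¹ ∈ C := by simpa using QuotientGroup.eq.1 e.2
  refine Subtype.ext ?_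
  rw [← hq a, ← hq b]
  refine Quotient.sound (MulAction.orbitRel_apply.2 ⟨⟨_, hc⟩, ?_⟩)
  show (g a * (g b)⁻¹) • y b = y a
  rw [mul_smul, ← hg b, inv_smul_smul, ← e.1, hg a]

theorem bernoulli_nat {q : ℕ} (hq : 1 ≤ q) :
    ∀ m : ℕ, m ≤ q → q ^ m * (q - m) ≤ (q - 1) ^ m * q := by
  intro m
  induction m with
  | zero => simp
  | succ m ih =>
    intro hm
    have h1 : (q - (m + 1)) * q ≤ (q - m) * (q - 1) := by
      obtain ⟨c, rfl⟩ : ∃ c, q = m + 1 + c := ⟨q - (m + 1), by omega⟩
      rw [show m + 1 + c - (m + 1) = c by omega, show m + 1 + c - m = c + 1 by omega,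
        show m + 1 + c - 1 = m + c by omega]
      nlinarith
    calc q ^ (m + 1) * (q - (m + 1)) = q ^ m * ((q - (m + 1)) * q) := by rw [pow_succ]; ring
      _ ≤ q ^ m * ((q - m) * (q - 1)) := Nat.mul_le_mul_left _ h1
      _ = q ^ m * (q - m) * (q - 1) := by ring
      _ ≤ (q - 1) ^ m * q * (q - 1) := Nat.mul_le_mul_right _ (ih (by omega))
      _ = _ := by rw [pow_succ]; ring

variable {F V : Type*} [Field F] [Finite F] [AddCommGroup V] [Module F V] [Finite V]
variable {L : Subgroup (V ≃ₗ[F] V)}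

theorem exists_min_invariant (C : Subgroup L) {v₀ : V} (hv₀ : v₀ ≠ 0) :
    ∃ U : Submodule F V, U ≠ ⊥ ∧ (∀ c ∈ C, ∀ u ∈ U, (c : V ≃ₗ[F] V) u ∈ U) ∧
      ∀ U' : Submodule F V, (∀ c ∈ C, ∀ u ∈ U', (c : V ≃ₗ[F] V) u ∈ U') → U' ≤ U → U' = ⊥ ∨ U' = U := by
  haveI : Finite (Submodule F V) :=
    Finite.of_injective (fun W : Submodule F V => (W : Set V)) SetLike.coe_injective
  obtain ⟨U, ⟨hU, hUC⟩, hmin⟩ := (Set.toFinite {U : Submodule F V | U ≠ ⊥ ∧
    ∀ c ∈ C, ∀ u ∈ U, (c : V ≃ₗ[F] V) u ∈ U}).exists_minimal ⟨⊤, fun h => hv₀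
      ((Submodule.mem_bot F).1 (h ▸ Submodule.mem_top)), fun _ _ _ _ => Submodule.mem_top⟩
  refine ⟨U, hU, hUC, fun U' hU' hle => ?_⟩
  by_cases h : U' = ⊥
  · exact Or.inl h
  · exact Or.inr (le_antisymm hle (hmin ⟨h, hU'⟩ hle))

/-- An element of a normal subgroup of prime order fixes no non-zero vector. -/
theorem eq_zero_of_fixed (hL : Irred L) {x : L} (hx1 : x ≠ 1)
    (hnorm : ∀ g : L, g * x * g⁻¹ ∈ zpowers x) {v : V} (hv : (x : V ≃ₗ[F] V) v = v) : v = 0 := by
  let W : Submodule F V :=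
    LinearMap.ker (((x : V ≃ₗ[F] V) : V →ₗ[F] V) - LinearMap.id)
  have hmem : ∀ w, w ∈ W ↔ (x : V ≃ₗ[F] V) w = w := fun w => by
    simp [W, sub_eq_zero]
  have hW : ∀ g ∈ L, ∀ w ∈ W, g w ∈ W := fun g hg w hw => by
    rw [hmem] at hw ⊢
    obtain ⟨k, hk⟩ := mem_zpowers_iff.1 (hnorm (⟨g, hg⟩ : L)⁻¹)
    have hfix : ((x ^ k : L) : V ≃ₗ[F] V) w = w := by
      have h1 : x ∈ (MulAction.stabilizer L w : Subgroup L) := hw
      exact zpow_mem h1 k
    rw [hk] at hfix
    have h2 := congrArg g hfix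
    simpa using h2
  rcases hL.2 W hW with h | h
  · exact (Submodule.mem_bot F).1 (h ▸ (hmem v).2 hv)
  · exact absurd (Subtype.ext (LinearEquiv.ext fun w => (hmem w).1 (h ▸ Submodule.mem_top))) hx1

omit [Finite F] in
/-- The algebra of a central element of an irreducible group is a field. -/
theorem isField_adjoin {Γ : Type*} [Group Γ] {U : Type*} [AddCommGroup U] [Module F U] [Finite U]
    [Nontrivial U] (ρ : Γ →* Module.End F U) (z : Γ) (hz : ∀ g : Γ, Commute g z)
    (hirr : ∀ W : Submodule F U, (∀ g : Γ, ∀ u ∈ W, ρ g u ∈ W) → W = ⊥ ∨ W = ⊤) :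
    (∀ y ∈ Algebra.adjoin F {ρ z}, ∀ g : Γ, Commute (ρ g) y) ∧
      IsField (Algebra.adjoin F {ρ z}) := by
  set R := Algebra.adjoin F {ρ z} with hR
  have hRc : ∀ y ∈ R, ∀ g : Γ, Commute (ρ g) y := fun y hy g => by
    induction hy using Algebra.adjoin_induction with
    | mem y hy =>
      rw [Set.mem_singleton_iff.1 hy]
      exact (hz g).map ρ
    | algebraMap k => exact (Algebra.commutes k _).symm
    | add a b _ _ ha hb => exact ha.add_right hb
    | mul a b _ _ ha hb => exact ha.mul_right hb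
  refine ⟨hRc, ?_⟩
  have hcomm : ∀ a b : R, a * b = b * a := fun a b => by
    have hXb : Commute (ρ z) (b : Module.End F U) := hRc b b.2 _
    refine Subtype.ext ?_
    show (a : Module.End F U) * b = b * a
    suffices h : ∀ y ∈ R, Commute y (b : Module.End F U) from h _ a.2
    intro y hy
    induction hy using Algebra.adjoin_induction with
    | mem y hy => rw [Set.mem_singleton_iff.1 hy]; exact hXb
    | algebraMap k => exact Algebra.commutes k _
    | add y z _ _ hy hz => exact Commute.add_left hy hz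
    | mul y z _ _ hy hz => exact Commute.mul_left hy hz
  haveI : Finite R := Finite.of_injective (fun y : R => ((y : Module.End F U) : U → U))
    (DFunLike.coe_injective.comp Subtype.val_injective)
  obtain ⟨u₀, hu₀⟩ := exists_ne (0 : U)
  refine ⟨⟨0, 1, fun h => hu₀ (LinearMap.congr_fun (congrArg Subtype.val h) u₀).symm⟩, hcomm,
    fun {y} hy => ?_⟩
  have hker : Function.Injective (y : Module.End F U) := by
    rw [← LinearMap.ker_eq_bot]
    refine (hirr _ fun g u hu => ?_).resolve_right fun htop => hy ?_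
    · have h1 := LinearMap.congr_fun (hRc y y.2 g).eq u
      simp only [Module.End.mul_apply, LinearMap.mem_ker.1 hu, map_zero] at h1
      exact LinearMap.mem_ker.2 h1.symm
    · exact Subtype.ext (LinearMap.ext fun u => LinearMap.mem_ker.1 (htop ▸ Submodule.mem_top))
  have hmul : Function.Injective fun z : R => y * z := fun z z' e => Subtype.ext
    (LinearMap.ext fun u => hker (LinearMap.congr_fun (congrArg Subtype.val e) u))
  exact Finite.injective_iff_surjective.1 hmul 1

/-- Representatives with distinct minimal polynomials. -/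
theorem exists_separated {G K : Type*} [Group G] [Finite G] [Field K] [Finite K] [Algebra F K]
    (C : Subgroup G) (σ : G → K) (hσ : ∀ g h : G, σ g = σ h → g⁻¹ * h ∈ C) :
    ∃ (T : Finset F[X]) (g : T → G), (∀ f : T, minpoly F (σ (g f)) = (f : F[X])) ∧ T.Nonempty ∧
      T.card ≤ C.index ∧ C.index ≤ finrank F K * T.card := by
  classical
  haveI : Module.Finite F K := Module.Finite.of_finite
  haveI : Fintype (G ⧸ C) := Fintype.ofFinite _
  let μ : G ⧸ C → F[X] := fun c => minpoly F (σ (Quotient.out c))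
  set T : Finset F[X] := Finset.univ.image μ with hT
  have hrep : ∀ f : T, ∃ g : G, minpoly F (σ g) = (f : F[X]) := fun f => by
    obtain ⟨c, -, hc⟩ := Finset.mem_image.1 f.2
    exact ⟨_, hc⟩
  choose g hg using hrep
  refine ⟨T, g, hg, ⟨μ (QuotientGroup.mk 1), Finset.mem_image_of_mem μ (Finset.mem_univ _)⟩, ?_, ?_⟩
  · rw [Subgroup.index, Nat.card_eq_fintype_card, ← Finset.card_univ]
    exact Finset.card_image_le
  · rw [Subgroup.index, Nat.card_eq_fintype_card, ← Finset.card_univ]
    refine Finset.card_le_mul_card_image _ _ fun f hf => ?_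
    obtain ⟨c₀, -, hc₀⟩ := Finset.mem_image.1 hf
    refine (Finset.card_le_card_of_injOn (t := (f.map (algebraMap F K)).roots.toFinset)
      (fun c => σ (Quotient.out c)) (fun c hc => ?_) fun c _ c' _ e => ?_).trans
      ((Multiset.toFinset_card_le _).trans ((Polynomial.card_roots' _).trans ?_))
    · simp only [Finset.coe_filter, Set.mem_setOf_eq] at hc
      refine Multiset.mem_toFinset.2 (Polynomial.mem_roots'.2 ?_)
      have hne : f ≠ 0 := hc₀ ▸ minpoly.ne_zero (Algebra.IsIntegral.isIntegral _)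
      refine ⟨Polynomial.map_ne_zero hne, ?_⟩
      rw [← hc.2, Polynomial.IsRoot, Polynomial.eval_map, ← Polynomial.aeval_def]
      exact minpoly.aeval F _
    · rw [← Quotient.out_eq c, ← Quotient.out_eq c']
      exact QuotientGroup.eq.2 (hσ _ _ e)
    · rw [Polynomial.natDegree_map, ← hc₀]
      exact minpoly.natDegree_le _

omit [Finite F] in
/-- Constituents with distinct minimal polynomials are independent. -/
theorem sum_injective {K : Type*} [Field K] [Algebra F K] [Module.Finite F K] {U : Type*}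
    [AddCommGroup U] [Module F U] [Module K U] [IsScalarTower F K U] (X₁ : Module.End F V)
    (T : Finset F[X]) (ι : T → U →ₗ[F] V) (hι : ∀ f, Function.Injective (ι f)) (σ : T → K)
    (hσ : ∀ f : T, minpoly F (σ f) = (f : F[X])) (hx : ∀ f u, X₁ (ι f u) = ι f (σ f • u)) :
    Function.Injective fun u : T → U => ∑ f, ι f (u f) := by
  classical
  have hkey : ∀ (P : F[X]) (f : T) (u : U), aeval X₁ P (ι f u) = ι f (aeval (σ f) P • u) := by
    intro P f
    induction P using Polynomial.induction_on with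
    | C k => intro u; simp [Module.algebraMap_end_apply]
    | add P Q hP hQ => intro u; rw [map_add, map_add, LinearMap.add_apply, hP, hQ, add_smul, map_add]
    | monomial n k ih =>
      intro u
      rw [pow_succ, ← mul_assoc, map_mul (aeval X₁) (_ * _), map_mul (aeval (σ f)) (_ * _),
        Polynomial.aeval_X, Polynomial.aeval_X, Module.End.mul_apply, hx, ih, smul_smul]
  have h0 : ∀ u : T → U, (∑ f, ι f (u f)) = 0 → ∀ f, u f = 0 := by
    intro u hu f
    set P : F[X] := ∏ f' ∈ Finset.univ.erase f, (f' : F[X]) with hP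
    have h1 := congrArg (aeval X₁ P) hu
    simp only [map_sum, map_zero, hkey] at h1
    rw [Finset.sum_eq_single f ?_ (fun h => absurd (Finset.mem_univ f) h)] at h1
    · have hne : aeval (σ f) P ≠ 0 := by
        rw [hP, map_prod]
        refine Finset.prod_ne_zero_iff.2 fun f' hf' h0 => (Finset.mem_erase.1 hf').1 ?_
        refine Subtype.ext ?_
        have hirr : Irreducible (f' : F[X]) := hσ f' ▸
          minpoly.irreducible (Algebra.IsIntegral.isIntegral _)
        have hmon : (f' : F[X]).Monic := hσ f' ▸ minpoly.monic (Algebra.IsIntegral.isIntegral _)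
        rw [← hσ f]
        exact minpoly.eq_of_irreducible_of_monic hirr h0 hmon
      exact (smul_eq_zero.1 ((map_eq_zero_iff _ (hι f)).1 h1)).resolve_left hne
    · intro f' _ hf'
      have h0 : aeval (σ f') P = 0 := by
        rw [hP, map_prod]
        refine Finset.prod_eq_zero (Finset.mem_erase.2 ⟨hf', Finset.mem_univ _⟩) ?_
        conv_lhs => rw [← hσ f']
        exact minpoly.aeval F _
      rw [h0, zero_smul, map_zero]
  intro u v e
  refine funext fun f => sub_eq_zero.1 (h0 (u - v) ?_ f)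
  simp only [Pi.sub_apply, map_sub, Finset.sum_sub_distrib]
  exact sub_eq_zero.2 e

theorem split_numeric {d m o f q p k n kC N : ℕ} (hd : 2 * d ≤ p) (hqp : p ≤ q) (hp : 2 ≤ p)
    (hmd : m ≤ d) (hdm : d ≤ o * m) (hq : q = f ^ o) (hf : 2 ≤ f)
    (hcube : (q - 1) ^ m ≤ kC * N ^ 2) (hk : kC ≤ d * k) (hN : N ≤ d * n) :
    2 ^ d ≤ (d * (k + n)) ^ 3 := by
  have hqm : 2 ^ d ≤ q ^ m := by
    refine (Nat.pow_le_pow_right two_pos hdm).trans ?_
    rw [pow_mul, hq]
    exact Nat.pow_le_pow_left (Nat.pow_le_pow_left hf o) m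
  have hber : q ^ m ≤ 2 * (q - 1) ^ m := by
    refine (Nat.mul_le_mul_right_iff (show 0 < q by omega)).1 ?_
    calc q ^ m * q ≤ q ^ m * (2 * (q - m)) := Nat.mul_le_mul_left _ (by omega)
      _ = 2 * (q ^ m * (q - m)) := by ring
      _ ≤ 2 * ((q - 1) ^ m * q) :=
        Nat.mul_le_mul_left _ (bernoulli_nat (q := q) (by omega) m (by omega))
      _ = _ := by ring
  calc 2 ^ d ≤ 2 * (q - 1) ^ m := hqm.trans hber
    _ ≤ 2 * (d * k * (d * n) ^ 2) :=
      Nat.mul_le_mul_left _ (hcube.trans (Nat.mul_le_mul hk (Nat.pow_le_pow_left hN 2)))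
    _ ≤ (d * (k + n)) ^ 3 := by
      rw [show (d * (k + n)) ^ 3 = 2 * (d * k * (d * n) ^ 2) +
        d ^ 3 * (k ^ 3 + 3 * k ^ 2 * n + k * n ^ 2 + n ^ 3) by ring]
      exact Nat.le_add_right _ _

/-- The restriction to an invariant subspace. -/
def resHom (C : Subgroup L) (U : Submodule F V)
    (hUC : ∀ c ∈ C, ∀ u ∈ U, (c : V ≃ₗ[F] V) u ∈ U) : C →* Module.End F U where
  toFun c := ((((c : L) : V ≃ₗ[F] V) : V →ₗ[F] V)).restrict fun u hu => hUC _ c.2 u hu
  map_one' := LinearMap.ext fun _ => Subtype.ext rfl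
  map_mul' _ _ := LinearMap.ext fun _ => Subtype.ext rfl

theorem resHom_apply (C : Subgroup L) (U : Submodule F V)
    (hUC : ∀ c ∈ C, ∀ u ∈ U, (c : V ≃ₗ[F] V) u ∈ U) (c : C) (u : U) :
    ((resHom C U hUC c u : U) : V) = ((c : L) : V ≃ₗ[F] V) (u : V) := rfl

/-- The action over a commuting field. -/
def semiHom {Γ : Type*} [Group Γ] {U : Type*} [AddCommGroup U] [Module F U]
    (R : Subalgebra F (Module.End F U)) (ρ : Γ →* Module.End F U)
    (h : ∀ y ∈ R, ∀ g : Γ, Commute (ρ g) y) : Γ →* (U ≃ₗ[R] U) where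
  toFun g :=
  { toFun := fun u => ρ g u
    invFun := fun u => ρ g⁻¹ u
    map_add' := map_add _
    map_smul' := fun y u => LinearMap.congr_fun (h y y.2 g).eq u
    left_inv := fun u => by
      show ρ g⁻¹ (ρ g u) = u
      rw [← Module.End.mul_apply, ← map_mul, inv_mul_cancel, map_one]; rfl
    right_inv := fun u => by
      show ρ g (ρ g⁻¹ u) = u
      rw [← Module.End.mul_apply, ← map_mul, mul_inv_cancel, map_one]; rfl }
  map_one' := LinearEquiv.ext fun u => by show ρ 1 u = u; rw [map_one]; rfl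
  map_mul' g h' := LinearEquiv.ext fun u => by show ρ (g * h') u = ρ g (ρ h' u); rw [map_mul]; rfl

/-- Conjugation on a normal subgroup. -/
def conjSub (C : Subgroup L) [C.Normal] (g : L) : C →* C where
  toFun c := ⟨g⁻¹ * c * g, by simpa using Normal.conj_mem ‹C.Normal› _ c.2 g⁻¹⟩
  map_one' := Subtype.ext (by simp)
  map_mul' a b := Subtype.ext (by simp only [Subgroup.coe_mul]; group)

theorem conjSub_surjective (C : Subgroup L) [C.Normal] (g : L) :
    Function.Surjective (conjSub C g) := fun c =>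
  ⟨⟨g * c * g⁻¹, Normal.conj_mem ‹C.Normal› _ c.2 g⟩, Subtype.ext (by
    show g⁻¹ * (g * c * g⁻¹) * g = c
    group)⟩

theorem sum_equivariant {R : Type*} [Semiring R] (C : Subgroup L) [C.Normal] (U : Submodule F V)
    [Module R U] (hUC : ∀ c ∈ C, ∀ u ∈ U, (c : V ≃ₗ[F] V) u ∈ U) (φ₀ : C →* (U ≃ₗ[R] U))
    (h : ∀ c u, φ₀ c u = resHom C U hUC c u) {ι : Type*} [Fintype ι] (g : ι → L) (c : C)
    (u : ι → U) : c • (∑ f, ((g f : L) : V ≃ₗ[F] V) (u f : V)) =
      ∑ f, ((g f : L) : V ≃ₗ[F] V) ((φ₀ (conjSub C (g f) c) (u f) : U) : V) := by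
  show ((c : L) : V ≃ₗ[F] V) _ = _
  rw [map_sum]
  refine Finset.sum_congr rfl fun f _ => ?_
  rw [h, resHom_apply]
  show _ = ((g f : L) : V ≃ₗ[F] V) ((((g f)⁻¹ * c * g f : L) : V ≃ₗ[F] V) (u f : V))
  simp

/-- The bound when a normal subgroup of prime order has a large automiser. -/
theorem split_bound {r p : ℕ} [Fact r.Prime] [CharP F r] [Fact p.Prime] [hsol : Group.IsSolvable L]
    (hL : Irred L) (x : L) (hx : orderOf x = p) (hnorm : ∀ g : L, g * x * g⁻¹ ∈ zpowers x)
    (hp : 729 ≤ p) (hd : 2 * (centralizer ({x} : Set L)).index ≤ p) :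
    2 ^ (centralizer ({x} : Set L)).index ≤
      ((centralizer ({x} : Set L)).index * (classNum L + vecOrbits L)) ^ 3 := by
  classical
  obtain ⟨v₀, hv₀⟩ := hL.1
  haveI : Module.Finite F V := Module.Finite.of_finite
  have hp' : p.Prime := Fact.out
  have hx1 : x ≠ 1 := fun e => hp'.ne_one (by rw [← hx, e, orderOf_one])
  set C := centralizer ({x} : Set L) with hC
  have hCx : ∀ c ∈ C, ∀ y ∈ zpowers x, Commute c y := fun c hc y hy => by
    obtain ⟨k, rfl⟩ := mem_zpowers_iff.1 hy
    exact Commute.zpow_right (mem_centralizer_singleton_iff.1 hc) k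
  haveI hCn : C.Normal := ⟨fun c hc g => by
    refine mem_centralizer_singleton_iff.2 ?_
    have hy : g⁻¹ * x * g ∈ zpowers x := by simpa using hnorm g⁻¹
    have h1 := (hCx c hc _ hy).eq
    calc g * c * g⁻¹ * x = g * (c * (g⁻¹ * x * g)) * g⁻¹ := by group
      _ = x * (g * c * g⁻¹) := by rw [h1]; group⟩
  obtain ⟨U, hU, hUC, hUmin⟩ := exists_min_invariant C hv₀
  haveI : Nontrivial U := Submodule.nontrivial_iff_ne_bot.2 hU
  have hirr : ∀ W : Submodule F U, (∀ c : C, ∀ u ∈ W, resHom C U hUC c u ∈ W) → W = ⊥ ∨ W = ⊤ := by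
    intro W hW
    have hW' : ∀ c ∈ C, ∀ u ∈ W.map U.subtype, (c : V ≃ₗ[F] V) u ∈ W.map U.subtype := by
      rintro c hc _ ⟨u, hu, rfl⟩
      exact ⟨_, hW ⟨c, hc⟩ u hu, rfl⟩
    rcases hUmin _ hW' (Submodule.map_subtype_le U W) with h | h
    · exact Or.inl (Submodule.map_injective_of_injective U.injective_subtype
        (h.trans (Submodule.map_bot _).symm))
    · exact Or.inr (Submodule.map_injective_of_injective U.injective_subtype
        ((h.trans U.range_subtype.symm).trans (Submodule.map_top _).symm))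
  have hxC : x ∈ C := mem_centralizer_singleton_iff.2 rfl
  have hpow : ∀ y ∈ zpowers x, y ∈ C := fun y hy => (zpowers_le.2 hxC) hy
  obtain ⟨hRc, hfield⟩ := isField_adjoin (resHom C U hUC) ⟨x, hxC⟩
    (fun c => Subtype.ext (mem_centralizer_singleton_iff.1 c.2)) hirr
  set R : Subalgebra F (Module.End F U) := Algebra.adjoin F {resHom C U hUC ⟨x, hxC⟩} with hR
  letI : Field R := hfield.toField
  haveI : Finite R := Finite.of_injective (fun y : R => ((y : Module.End F U) : U → U))
    (DFunLike.coe_injective.comp Subtype.val_injective)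
  haveI : CharP R r := charP_of_injective_algebraMap (algebraMap F R).injective r
  haveI : Module.Finite F R := Module.Finite.of_finite
  have hmem : ∀ y : zpowers x, resHom C U hUC ⟨y, hpow _ y.2⟩ ∈ R := fun y => by
    obtain ⟨k, hk⟩ := (mem_powers_iff_mem_zpowers (x := x)).2 y.2
    have e1 : (⟨(y : L), hpow _ y.2⟩ : C) = ⟨x, hxC⟩ ^ k := Subtype.ext hk.symm
    rw [e1, map_pow]
    exact pow_mem (Algebra.self_mem_adjoin_singleton F _) k
  let powR : zpowers x →* R :=
    ((resHom C U hUC).comp (Subgroup.inclusion (zpowers_le.2 hxC))).codRestrict R hmem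
  have hpowR : ∀ (y : zpowers x) (u : U),
      ((powR y • u : U) : V) = ((y : L) : V ≃ₗ[F] V) (u : V) := fun _ _ => rfl
  have hcz : Nat.card (zpowers x) = p := (Nat.card_zpowers x).trans hx
  have hzinj : Function.Injective powR := by
    rw [← MonoidHom.ker_eq_bot_iff]
    refine (Subgroup.eq_bot_or_eq_top_of_prime_card (hp := ⟨hcz.symm ▸ hp'⟩) powR.ker).resolve_right
      fun htop => ?_
    have h1 : powR ⟨x, mem_zpowers x⟩ = 1 := MonoidHom.mem_ker.1 (htop ▸ mem_top _)
    obtain ⟨u, hu⟩ := exists_ne (0 : U)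
    refine hu (Subtype.ext (eq_zero_of_fixed hL hx1 hnorm (v := (u : V)) ?_))
    have h2 := hpowR ⟨x, mem_zpowers x⟩ u
    rw [h1, one_smul] at h2
    exact h2.symm
  have hconj : ∀ g : L, g⁻¹ * x * g ∈ zpowers x := fun g => by simpa using hnorm g⁻¹
  let σ : L → R := fun g => powR ⟨_, hconj g⟩
  have hσ : ∀ g h : L, σ g = σ h → g⁻¹ * h ∈ C := by
    intro g h e
    have h1 : g⁻¹ * x * g = h⁻¹ * x * h := congrArg Subtype.val (hzinj e)
    have h2 : h * g⁻¹ ∈ C := by
      refine mem_centralizer_singleton_iff.2 ?_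
      calc h * g⁻¹ * x = h * (g⁻¹ * x * g) * g⁻¹ := by group
        _ = x * (h * g⁻¹) := by rw [h1]; group
    simpa using hCn.conj_mem' _ h2 h
  obtain ⟨T, g, hgT, hTne, hmd, hdm⟩ := exists_separated (F := F) C σ hσ
  haveI : Nonempty T := hTne.to_subtype
  set M := (semiHom R (resHom C U hUC) hRc).range with hM
  haveI : Group.IsSolvable M :=
    Group.isSolvable_of_surjective (semiHom R (resHom C U hUC) hRc).rangeRestrict_surjective
  have hMirr : Irred M := by
    refine ⟨exists_ne 0, fun W hW => ?_⟩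
    rcases hirr (W.restrictScalars F) (fun c u hu => hW _ ⟨c, rfl⟩ u hu) with h | h
    · exact Or.inl ((Submodule.restrictScalars_eq_bot_iff F R U).1 h)
    · exact Or.inr ((Submodule.restrictScalars_eq_top_iff F R U).1 h)
  let Φ : (T → U) → V := fun u => ∑ f, ((g f : L) : V ≃ₗ[F] V) (u f : V)
  have hΦ : Function.Injective Φ :=
    sum_injective (((x : L) : V ≃ₗ[F] V) : V →ₗ[F] V) T
      (fun f => (((g f : L) : V ≃ₗ[F] V) : V →ₗ[F] V).comp U.subtype)
      (fun f => ((g f : L) : V ≃ₗ[F] V).injective.comp U.injective_subtype)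
      (fun f => σ (g f)) hgT (fun f u => by
        show (x : V ≃ₗ[F] V) ((g f : V ≃ₗ[F] V) (u : V)) = (g f : V ≃ₗ[F] V) ((σ (g f) • u : U) : V)
        rw [hpowR]
        simp)
  have hΦz : Φ 0 = 0 := by simp [Φ]
  have hqp : p ≤ Nat.card R := hcz ▸ Nat.card_le_card_of_injective powR hzinj
  have hcube := cube_bound (r := r) M hMirr
    (fun f => (semiHom R (resHom C U hUC) hRc).rangeRestrict.comp (conjSub C (g f)))
    (fun f => (semiHom R (resHom C U hUC) hRc).rangeRestrict_surjective.comp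
      (conjSub_surjective C (g f))) Φ hΦ
    (fun c u => sum_equivariant C U hUC (semiHom R (resHom C U hUC) hRc) (fun _ _ => rfl) g c u)
    (hp.trans hqp)
  rw [hΦz, Fintype.card_coe] at hcube
  exact split_numeric (f := Nat.card F) hd hqp (by omega) hmd hdm Module.natCard_eq_pow_finrank
    (Finite.one_lt_card (α := F)) hcube (classNum_subgroup_le C) (orbitsOn_subgroup_le C _)

end CfsgLib.Solvable.ClassBound
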