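import Cfsg.Agent.Lib.Solvable.ClassBound.PlaneBound
import Cfsg.Agent.Lib.Solvable.ClassBound.Split
import Cfsg.Agent.Lib.Solvable.Cores

/-!
# The class number of a solvable group and the primes dividing the index of its Fitting subgroup

If `G` is solvable and the prime `p` divides `|G : F(G)|` then `G` has at least `p / (3 log₂ p)`
classes.
-/

set_option autoImplicit false
set_option linter.unusedSectionVars false
set_option linter.style.haveILetI false

universe u

namespace CfsgLib.Solvable.ClassBound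

open Subgroup Module
open scoped IsMulCommutative

/-- An abelian group of exponent `r` as a module over `ZMod r`. -/
@[instance_reducible]
def zmodOfPow {A : Type*} [CommGroup A] (r : ℕ) (h : ∀ a : A, a ^ r = 1) :
    Module (ZMod r) (Additive A) :=
  AddCommGroup.zmodModule fun v => h (Additive.toMul v)

/-- An automorphism of an elementary abelian group as a linear map. -/
def linOf {A : Type*} [CommGroup A] (r : ℕ) [Module (ZMod r) (Additive A)] :
    MulAut A →* (Additive A ≃ₗ[ZMod r] Additive A) where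
  toFun α := { MulEquiv.toAdditive α with
    map_smul' := fun c v => ZMod.map_smul (MulEquiv.toAdditive α).toAddMonoidHom c v }
  map_one' := LinearEquiv.ext fun _ => rfl
  map_mul' _ _ := LinearEquiv.ext fun _ => rfl

theorem linOf_apply {A : Type*} [CommGroup A] (r : ℕ) [Module (ZMod r) (Additive A)] (α : MulAut A)
    (v : Additive A) : Additive.toMul (linOf r α v) = α (Additive.toMul v) := rfl

/-- The conjugation representation on an elementary abelian normal subgroup. -/
theorem exists_rep {G : Type u} [Group G] [Finite G] [Group.IsSolvable G] (N : Subgroup G)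
    [hn : N.Normal] (hc : ∀ a ∈ N, ∀ b ∈ N, a * b = b * a) (hN : N ≠ ⊥)
    (hmin : ∀ K : Subgroup G, K.Normal → K ≤ N → K = ⊥ ∨ K = N) {r : ℕ} [Fact r.Prime]
    (hexp : ∀ x ∈ N, x ^ r = 1) :
    ∃ (W : Type u) (_ : AddCommGroup W) (_ : Module (ZMod r) W) (_ : Finite W)
      (L : Subgroup (W ≃ₗ[ZMod r] W)) (f : G →* L),
      Function.Surjective f ∧ f.ker = centralizer (N : Set G) ∧ Irred L ∧
        Nat.card W = Nat.card N ∧ classNum L + vecOrbits L ≤ classNum G := by
  classical
  haveI : IsMulCommutative N := Basic.isMulCommutative_subgroup_iff.2 hc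
  letI : Module (ZMod r) (Additive N) :=
    zmodOfPow r fun a => Subtype.ext (by rw [Subgroup.coe_pow]; exact hexp _ a.2)
  let T : G →* (Additive N ≃ₗ[ZMod r] Additive N) :=
    (linOf r).comp (MulAut.conjNormal (H := N))
  have hT : ∀ (g : G) (v : Additive N),
      ((Additive.toMul (T g v) : N) : G) = g * (Additive.toMul v : N) * g⁻¹ := fun g v =>
    MulAut.conjNormal_apply g _
  have hker : T.ker = centralizer (N : Set G) := by
    ext g
    rw [MonoidHom.mem_ker, mem_centralizer_iff]
    constructor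
    · intro h x hx
      have h1 := hT g (Additive.ofMul ⟨x, hx⟩)
      rw [h] at h1
      exact (eq_mul_inv_iff_mul_eq.1 h1)
    · intro h
      refine LinearEquiv.ext fun v => Additive.toMul.injective (Subtype.ext ?_)
      rw [hT, ← h _ (Additive.toMul v).2, mul_inv_cancel_right]
      rfl
  refine ⟨Additive N, inferInstance, inferInstance, inferInstance, T.range, T.rangeRestrict,
    T.rangeRestrict_surjective, by rw [MonoidHom.ker_rangeRestrict, hker], ?_, ?_, ?_⟩
  · haveI : Nontrivial N := (Subgroup.nontrivial_iff_ne_bot N).2 hN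
    refine ⟨exists_ne 0, fun W hW => ?_⟩
    let K : Subgroup G :=
    { carrier := {x | ∃ h : x ∈ N, Additive.ofMul (⟨x, h⟩ : N) ∈ W}
      one_mem' := ⟨one_mem N, W.zero_mem⟩
      mul_mem' := fun ⟨h1, h2⟩ ⟨h3, h4⟩ => ⟨mul_mem h1 h3, W.add_mem h2 h4⟩
      inv_mem' := fun ⟨h1, h2⟩ => ⟨inv_mem h1, W.neg_mem h2⟩ }
    have hKn : K.Normal := ⟨fun x ⟨h1, h2⟩ g => by
      refine ⟨hn.conj_mem x h1 g, ?_⟩
      have h3 := hW _ ⟨g, rfl⟩ _ h2
      convert h3 using 1
      exact Additive.toMul.injective (Subtype.ext (hT g (Additive.ofMul ⟨x, h1⟩)).symm)⟩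
    rcases hmin K hKn (fun x ⟨h, _⟩ => h) with h | h
    · left
      rw [eq_bot_iff]
      intro v hv
      have h1 : ((Additive.toMul v : N) : G) ∈ K := ⟨(Additive.toMul v).2, hv⟩
      rw [h, Subgroup.mem_bot] at h1
      exact (Submodule.mem_bot _).2 (Additive.toMul.injective (Subtype.ext h1))
    · right
      rw [eq_top_iff]
      intro v _
      have h1 : ((Additive.toMul v : N) : G) ∈ K := (SetLike.ext_iff.1 h _).2 (Additive.toMul v).2
      exact h1.2
  · exact Nat.card_congr Additive.toMul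
  · haveI : (centralizer (N : Set G)).Normal := inferInstance
    set O := (Quotient.mk (MulAction.orbitRel T.range (Additive N))) '' ({0}ᶜ : Set (Additive N))
    have hrep : ∀ o : O, ∃ v : Additive N, v ≠ 0 ∧
        Quotient.mk (MulAction.orbitRel T.range (Additive N)) v = o := fun o => by
      obtain ⟨v, hv, e⟩ := o.2
      exact ⟨v, hv, e⟩
    choose β hβ hβe using hrep
    let cl : O → ConjClasses G := fun o => ConjClasses.mk ((Additive.toMul (β o) : N) : G)
    have hinj : Function.Injective cl := fun o o' e => by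
      obtain ⟨g, hg⟩ := isConj_iff.1 (ConjClasses.mk_eq_mk_iff_isConj.1 e)
      refine Subtype.ext ?_
      rw [← hβe o, ← hβe o']
      refine (Quotient.sound (MulAction.orbitRel_apply.2 ⟨⟨_, g, rfl⟩, ?_⟩)).symm
      show T g (β o) = β o'
      exact Additive.toMul.injective (Subtype.ext ((hT g _).trans hg))
    have hs : ∀ g : G, ConjClasses.mk g ∈ Set.range cl → g ∈ centralizer (N : Set G) ∧ g ≠ 1 := by
      rintro g ⟨o, ho⟩
      obtain ⟨c, hc'⟩ := isConj_iff.1 (ConjClasses.mk_eq_mk_iff_isConj.1 ho)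
      have hgN : g ∈ N := hc' ▸ hn.conj_mem _ (Additive.toMul (β o)).2 c
      refine ⟨mem_centralizer_iff.2 fun y hy => hc y hy g hgN, fun h1 => hβ o ?_⟩
      rw [h1, mul_inv_eq_one, mul_eq_left] at hc'
      exact Additive.toMul.injective (Subtype.ext hc')
    refine le_trans ?_ (classNum_quotient_add_le (centralizer (N : Set G)) (Set.range cl) hs)
    refine Nat.add_le_add (classNum_le_of_surjective
      (QuotientGroup.lift _ T.rangeRestrict (by rw [MonoidHom.ker_rangeRestrict, hker]))
      (QuotientGroup.lift_surjective_of_surjective _ _ T.rangeRestrict_surjective _)) (le_of_eq ?_)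
    rw [← Nat.card_coe_set_eq (Set.range cl), Nat.card_range_of_injective hinj,
      Nat.card_coe_set_eq]
    rfl

theorem three_le_classNum {G : Type*} [Group G] [Finite G] [Group.IsSolvable G]
    (h : 3 ≤ Nat.card G) : 3 ≤ classNum G := by
  classical
  haveI : Nontrivial G := Finite.one_lt_card_iff_nontrivial.1 (by omega)
  by_cases hc : commutator G = ⊥
  · rw [classNum_of_comm fun a b => commutatorElement_eq_one_iff_mul_comm.1
      (mem_bot.1 (hc ▸ commutator_mem_commutator (mem_top a) (mem_top b)))]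
    exact h
  · obtain ⟨y, hy, hy1⟩ := (commutator G).ne_bot_iff_exists_ne_one.1 hc |> fun ⟨z, hz⟩ =>
      (⟨(z : G), z.2, fun e => hz (Subtype.ext e)⟩ : ∃ y : G, y ∈ commutator G ∧ y ≠ 1)
    obtain ⟨x, hx⟩ : ∃ x, x ∉ commutator G := by
      by_contra hall
      push Not at hall
      exact (Group.IsSolvable.commutator_lt_top_of_nontrivial G).ne (eq_top_iff.2 fun z _ => hall z)
    let f : Fin 3 → ConjClasses G := ![ConjClasses.mk 1, ConjClasses.mk y, ConjClasses.mk x]
    have h01 : ConjClasses.mk (1 : G) ≠ ConjClasses.mk y := fun e =>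
      hy1 (isConj_one_right.1 (ConjClasses.mk_eq_mk_iff_isConj.1 e))
    have h02 : ConjClasses.mk (1 : G) ≠ ConjClasses.mk x := fun e =>
      hx (isConj_one_right.1 (ConjClasses.mk_eq_mk_iff_isConj.1 e) ▸ one_mem _)
    have h12 : ConjClasses.mk y ≠ ConjClasses.mk x := fun e => hx (by
      obtain ⟨c, hc⟩ := isConj_iff.1 (ConjClasses.mk_eq_mk_iff_isConj.1 e)
      exact hc ▸ Subgroup.Normal.conj_mem inferInstance y hy c)
    have hf : Function.Injective f := fun i j e => by
      fin_cases i <;> fin_cases j <;> simp_all [f, eq_comm]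
    simpa [classNum] using Nat.card_le_card_of_injective f hf

theorem log_ge_one {p : ℕ} (hp : 2 ≤ p) : (1 : ℝ) ≤ Real.logb 2 p := by
  refine le_trans ?_ (Real.natLog_le_logb p 2)
  exact_mod_cast Nat.log_pos one_lt_two hp

theorem le_of_nat {p k : ℕ} (h : p ≤ 3 * Nat.log 2 p * k) :
    (p : ℝ) ≤ 3 * Real.logb 2 p * k := by
  refine le_trans (by exact_mod_cast h : (p : ℝ) ≤ ((3 * Nat.log 2 p * k : ℕ) : ℝ)) ?_
  push_cast
  exact mul_le_mul_of_nonneg_right
    (mul_le_mul_of_nonneg_left (Real.natLog_le_logb p 2) (by norm_num)) (Nat.cast_nonneg _)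

/-- The numerical end of the hard case. -/
theorem exp_bound {p d K : ℕ} (hp : 3 ≤ p) (hd : 3 * Real.logb 2 p < d)
    (h : 2 ^ d ≤ (d * K) ^ 3) : (p : ℝ) ≤ 3 * Real.logb 2 p * K := by
  have hlog2 : (0 : ℝ) < Real.log 2 := Real.log_pos (by norm_num)
  have hp0 : (0 : ℝ) < p := by exact_mod_cast (by omega : 0 < p)
  set P := Real.log (p : ℝ) with hP
  have hP1 : 1 ≤ P := by
    rw [hP, Real.le_log_iff_exp_le hp0]
    exact le_trans (Real.exp_one_lt_d9.le) (le_trans (by norm_num) (Nat.cast_le.2 hp))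
  have hL : Real.logb 2 p = P / Real.log 2 := rfl
  set a := (d : ℝ) * Real.log 2 / 3 with ha
  have hd0 : (0 : ℝ) < d := lt_of_le_of_lt (by rw [hL]; positivity) hd
  have haP : P ≤ a := by
    rw [hL, mul_div_assoc', div_lt_iff₀ hlog2] at hd
    rw [ha]; linarith
  have h1 : Real.exp a ≤ (d : ℝ) * K := by
    refine (pow_le_pow_iff_left₀ (Real.exp_pos a).le (by positivity) (n := 3) (by norm_num)).1 ?_
    rw [← Real.exp_nat_mul]
    have e : ((3 : ℕ) : ℝ) * a = (d : ℝ) * Real.log 2 := by rw [ha]; push_cast; ring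
    rw [e, Real.exp_nat_mul, Real.exp_log (by norm_num : (0 : ℝ) < 2)]
    exact_mod_cast h
  have h2 : (p : ℝ) * (1 + a - P) ≤ Real.exp a := by
    have e : Real.exp a = p * Real.exp (a - P) := by
      conv_rhs => rw [show (p : ℝ) = Real.exp P from (Real.exp_log hp0).symm, ← Real.exp_add]
      congr 1; ring
    rw [e]
    exact mul_le_mul_of_nonneg_left (by linarith [Real.add_one_le_exp (a - P)]) hp0.le
  have h3 : a ≤ P * (1 + a - P) := by nlinarith
  have h4 : (p : ℝ) * a ≤ P * ((d : ℝ) * K) := by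
    calc (p : ℝ) * a ≤ p * (P * (1 + a - P)) := mul_le_mul_of_nonneg_left h3 hp0.le
      _ = P * (p * (1 + a - P)) := by ring
      _ ≤ _ := mul_le_mul_of_nonneg_left (h2.trans h1) (by linarith)
  rw [hL, mul_div_assoc', div_mul_eq_mul_div, le_div_iff₀ hlog2]
  rw [ha] at h4
  refine le_of_mul_le_mul_left ?_ hd0
  nlinarith

/-- The index of the Fitting subgroup and a quotient by a minimal normal subgroup. -/
theorem dvd_index_quotient {G : Type*} [Group G] [Finite G] (V : Subgroup G) [V.Normal] {p : ℕ}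
    (hp : p.Prime) (hdvd : p ∣ (Cfsg.fittingSubgroup G).index)
    (hC : ¬ p ∣ (centralizer (V : Set G)).index) :
    p ∣ (Cfsg.fittingSubgroup (G ⧸ V)).index := by
  by_contra hM
  set F' := Cfsg.fittingSubgroup (G ⧸ V) with hF'
  haveI : F'.Normal := Cores.fittingSubgroup_normal
  set C := centralizer (V : Set G) with hCdef
  haveI : C.Normal := by rw [hCdef]; infer_instance
  set M := F'.comap (QuotientGroup.mk' V) with hMdef
  haveI : M.Normal := by rw [hMdef]; infer_instance
  have hMi : M.index = F'.index := index_comap_of_surjective _ (QuotientGroup.mk'_surjective V)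
  set N := M ⊓ C with hNdef
  haveI : N.Normal := by rw [hNdef]; infer_instance
  have hNi : ¬ p ∣ N.index := by
    rw [hNdef, ← relIndex_mul_index (inf_le_right : M ⊓ C ≤ C), inf_relIndex_right]
    intro h
    rcases hp.dvd_mul.1 h with h | h
    · exact hM (hMi ▸ h.trans (relIndex_dvd_index_of_normal (H := M) (K := C)))
    · exact hC h
  have hNnil : Group.IsNilpotent N := by
    let f : N →* F' := ((QuotientGroup.mk' V).comp N.subtype).codRestrict F' fun x => x.2.1
    refine Subgroup.isNilpotent_of_ker_le_center f (fun x hx => mem_center_iff.2 fun y => ?_)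
    have hxV : (x : G) ∈ V := (QuotientGroup.eq_one_iff _).1 (congrArg Subtype.val hx)
    exact Subtype.ext (mem_centralizer_iff.1 (show (y : G) ∈ C from y.2.2) _ hxV).symm
  exact hNi (hdvd.trans (index_dvd_of_le (Cores.le_fittingSubgroup hNnil)))

/-- The case of a linear group with an automiser of order divisible by `p` only in the
Fitting subgroup. -/
theorem linear_bound {F V : Type*} [Field F] [Finite F] [AddCommGroup V] [Module F V] [Finite V]
    {r : ℕ} [Fact r.Prime] [CharP F r] {L : Subgroup (V ≃ₗ[F] V)} [hsol : Group.IsSolvable L]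
    (hL : Irred L) {p : ℕ} [Fact p.Prime] (h37 : 37 ≤ p) (hdvd : p ∣ Nat.card L)
    (hF : ¬ p ∣ (Cfsg.fittingSubgroup L).index) :
    (p : ℝ) ≤ 3 * Real.logb 2 p * ((classNum L + vecOrbits L : ℕ) : ℝ) := by
  classical
  have hp : p.Prime := Fact.out
  have hpc : Cfsg.pCore p L ≠ ⊥ := by
    intro hbot
    rw [← (Cfsg.fittingSubgroup L).card_mul_index] at hdvd
    have hpF : p ∣ Nat.card (Cfsg.fittingSubgroup L) := (hp.dvd_mul.1 hdvd).resolve_right hF
    obtain ⟨P⟩ : Nonempty (Sylow p (Cfsg.fittingSubgroup L)) := inferInstance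
    haveI : (P : Subgroup (Cfsg.fittingSubgroup L)).Normal := inferInstance
    haveI : (P : Subgroup (Cfsg.fittingSubgroup L)).Characteristic :=
      P.characteristic_of_normal inferInstance
    have h1 := Cores.le_pCore (P.isPGroup'.map (Cfsg.fittingSubgroup L).subtype)
    rw [hbot, le_bot_iff, Subgroup.map_eq_bot_iff_of_injective _ (subtype_injective _)] at h1
    exact P.ne_bot_of_dvd_card hpF h1
  obtain ⟨W, hWn, hW, hWle, hWmin⟩ :=
    Basic.exists_minimal_normal_le (H := Cfsg.pCore p L) (hn := Cores.pCore_normal p) hpc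
  haveI := hWn
  haveI : Group.IsSolvable W := inferInstance
  obtain ⟨hWc', q', hq', hWexp, -⟩ := Basic.minimal_normal_solvable W hW hWmin
  have hWc := Basic.isMulCommutative_subgroup_iff.1 hWc'
  have hWp : IsPGroup p W := (Cores.isPGroup_pCore p).to_le hWle
  obtain rfl : p = q' := by
    obtain ⟨x, hx, hx1⟩ := W.ne_bot_iff_exists_ne_one.1 hW |> fun ⟨z, hz⟩ =>
      (⟨(z : L), z.2, fun e => hz (Subtype.ext e)⟩ : ∃ y : L, y ∈ W ∧ y ≠ 1)
    obtain ⟨k, hk⟩ := hWp ⟨x, hx⟩
    have hk' : x ^ p ^ k = 1 := congrArg Subtype.val hk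
    haveI := Fact.mk hq'
    have ho : orderOf x = q' := orderOf_eq_prime (hWexp x hx) hx1
    have := orderOf_dvd_of_pow_eq_one hk'
    rw [ho] at this
    exact ((Nat.prime_dvd_prime_iff_eq hq' hp).1 (hq'.dvd_of_dvd_pow this)).symm
  obtain ⟨W', i1, i2, i3, L₂, f, hf, hfk, hL₂, hcard, hkL⟩ := exists_rep W hWc hW hWmin hWexp
  haveI : Group.IsSolvable L₂ := Group.isSolvable_of_surjective hf
  haveI : Module.Finite (ZMod p) W' := Module.Finite.of_finite
  have hq : Nat.card (ZMod p) = p := Nat.card_zmod p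
  set k₂ := classNum L₂
  set n₂ := vecOrbits L₂
  set K := classNum L + vecOrbits L with hK
  have hkn : k₂ + n₂ ≤ K := hkL.trans (Nat.le_add_right _ _)
  set l := Nat.log 2 p with hl
  have hl5 : 5 ≤ l := Nat.le_log_of_pow_le one_lt_two (by omega)
  rcases Nat.lt_or_ge 1 (finrank (ZMod p) W') with he | he
  · have h1 := plane_bound (r := p) hL₂ he (hq.symm ▸ h37)
    rw [hq] at h1
    change (p - 1) ^ 2 ≤ 576 * (k₂ * n₂) at h1
    refine le_of_nat ?_
    have h2 : p - 1 ≤ 12 * K := by
      refine (Nat.pow_le_pow_iff_left two_ne_zero).1 (h1.trans ?_)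
      have h3 : 4 * (k₂ * n₂) ≤ (k₂ + n₂) * (k₂ + n₂) := by
        nlinarith [sq_nonneg ((k₂ : ℤ) - n₂)]
      have h4 := h3.trans (Nat.mul_le_mul hkn hkn)
      rw [mul_pow, sq K]
      omega
    have h5 : 15 * K ≤ 3 * l * K := Nat.mul_le_mul_right _ (by omega)
    rw [← hl]
    omega
  have he1 : finrank (ZMod p) W' = 1 := by
    have hWcard : 1 < Nat.card W' := by
      rw [hcard]
      exact Finite.one_lt_card_iff_nontrivial.2 ((Subgroup.nontrivial_iff_ne_bot W).2 hW)
    have : finrank (ZMod p) W' ≠ 0 := fun h0 => by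
      rw [Module.natCard_eq_pow_finrank (K := ZMod p) (V := W'), h0, pow_zero] at hWcard
      omega
    omega
  set d := Nat.card L₂ with hd
  have hd0 : 0 < d := Nat.card_pos
  have hab : ∀ a b : L₂, a * b = b * a := by
    obtain ⟨w, hw, hgen⟩ := finrank_eq_one_iff'.1 he1
    intro a b
    refine Subtype.ext (LinearEquiv.ext fun v => ?_)
    obtain ⟨ca, hca⟩ := hgen ((a : W' ≃ₗ[ZMod p] W') w)
    obtain ⟨cb, hcb⟩ := hgen ((b : W' ≃ₗ[ZMod p] W') w)
    obtain ⟨cv, hcv⟩ := hgen v
    show (a : W' ≃ₗ[ZMod p] W') ((b : W' ≃ₗ[ZMod p] W') v) =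
      (b : W' ≃ₗ[ZMod p] W') ((a : W' ≃ₗ[ZMod p] W') v)
    simp only [← hcv, map_smul, ← hca, ← hcb]
    simp only [smul_smul, mul_comm, mul_left_comm]
  have hk₂ : k₂ = d := classNum_of_comm hab
  have hn₂ : p - 1 ≤ n₂ * d := by
    refine le_trans (le_of_eq ?_)
      (ncard_le_orbitsOn_mul_card (L := L₂) (Set.Subset.refl ({0}ᶜ : Set W')))
    rw [Set.ncard_compl, Set.ncard_singleton, Module.natCard_eq_pow_finrank (K := ZMod p) (V := W'),
      he1, pow_one, hq]
  have hdK : d + n₂ ≤ K := hk₂ ▸ hkn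
  by_cases hdA : (d : ℝ) ≤ 3 * Real.logb 2 p
  · have h1 : (1 : ℝ) ≤ Real.logb 2 p := log_ge_one (by omega)
    have h2 : ((p : ℝ)) - 1 ≤ (n₂ : ℝ) * d := by
      have h3 : ((p - 1 : ℕ) : ℝ) ≤ ((n₂ * d : ℕ) : ℝ) := Nat.cast_le.2 hn₂
      rw [Nat.cast_sub (by omega), Nat.cast_mul, Nat.cast_one] at h3
      exact h3
    have h4 : ((d : ℝ) + n₂) ≤ (K : ℝ) := by exact_mod_cast hdK
    have h5 : (1 : ℝ) ≤ d := by exact_mod_cast hd0
    have h6 : (n₂ : ℝ) * d ≤ n₂ * (3 * Real.logb 2 p) :=
      mul_le_mul_of_nonneg_left hdA (Nat.cast_nonneg _)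
    nlinarith
  push Not at hdA
  by_cases hdB : p ≤ 3 * l * d
  · exact le_of_nat (hdB.trans (Nat.mul_le_mul_left _ (by omega)))
  push Not at hdB
  have hld : 3 * l < d := by
    have h1 : ((3 * l : ℕ) : ℝ) < d := by
      push_cast
      exact lt_of_le_of_lt (mul_le_mul_of_nonneg_left (Real.natLog_le_logb p 2) (by norm_num)) hdA
    exact_mod_cast h1
  have hpbig : 729 ≤ p := by
    have h1 : 3 * l * (3 * l + 1) ≤ 3 * l * d := Nat.mul_le_mul_left _ hld
    have h2 : p < 2 ^ (l + 1) := Nat.lt_pow_succ_log_self one_lt_two p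
    by_contra hlt
    have hl8 : l < 10 := Nat.log_lt_of_lt_pow (by omega) (by omega)
    interval_cases l <;> omega
  have hWcard : Nat.card W = p := by
    rw [← hcard, Module.natCard_eq_pow_finrank (K := ZMod p) (V := W'), he1, pow_one, hq]
  haveI : Fact (Nat.card W).Prime := ⟨hWcard.symm ▸ hp⟩
  obtain ⟨x, hx, hx1⟩ := W.ne_bot_iff_exists_ne_one.1 hW |> fun ⟨z, hz⟩ =>
    (⟨(z : L), z.2, fun e => hz (Subtype.ext e)⟩ : ∃ y : L, y ∈ W ∧ y ≠ 1)
  have hox : orderOf x = p := orderOf_eq_prime (hWexp x hx) hx1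
  have hWx : zpowers x = W := eq_of_le_of_card_ge (zpowers_le.2 hx)
    (by rw [Nat.card_zpowers, hox, hWcard])
  have hC : centralizer ({x} : Set L) = centralizer (W : Set L) := by
    rw [← hWx, zpowers_eq_closure, centralizer_closure]
  have hidx : (centralizer ({x} : Set L)).index = d := by
    rw [hC, ← hfk, Subgroup.index_ker, MonoidHom.range_eq_top.2 hf, card_top]
  have hsplit := split_bound (r := r) hL x hox
    (fun g => hWx.symm ▸ hWn.conj_mem x hx g) hpbig (by
      rw [hidx]
      have : 2 * d ≤ 3 * l * d := Nat.mul_le_mul_right _ (by omega)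
      omega)
  rw [hidx] at hsplit
  exact exp_bound (by omega) hdA hsplit

theorem bound_aux : ∀ (n : ℕ) (G : Type u) [Group G] [Finite G], Nat.card G ≤ n →
    Group.IsSolvable G → ∀ (p : ℕ) [Fact p.Prime], p ∣ (Cfsg.fittingSubgroup G).index →
      (p : ℝ) ≤ 3 * Real.logb 2 p * (classNum G : ℝ) := by
  intro n
  induction n with
  | zero => intro G _ _ h; exact absurd h (Nat.card_pos (α := G)).not_ge
  | succ n ih =>
    intro G _ _ hn hsol p _ hdvd
    have hp : p.Prime := Fact.out
    have hpG : p ≤ Nat.card G :=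
      Nat.le_of_dvd Nat.card_pos (hdvd.trans (index_dvd_card _))
    by_cases h31 : p < 37
    · refine le_of_nat ?_
      by_cases h3 : p = 2
      · subst h3
        have h1 : 1 ≤ classNum G := classNum_pos
        have h2 : Nat.log 2 2 = 1 := Nat.log_eq_one_iff'.2 ⟨le_rfl, by norm_num⟩
        rw [h2]; omega
      · have h2 := three_le_classNum (G := G) (by have := hp.two_le; omega)
        have h4 : ∀ q, q < 37 → 2 ≤ q → q ≤ 9 * Nat.log 2 q := by decide +kernel
        refine (h4 p h31 hp.two_le).trans ?_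
        rw [show 9 * Nat.log 2 p = 3 * Nat.log 2 p * 3 by ring]
        exact Nat.mul_le_mul_left _ h2
    haveI : Nontrivial G := Finite.one_lt_card_iff_nontrivial.1 (lt_of_lt_of_le hp.one_lt hpG)
    obtain ⟨V, hVn, hV, -, hVmin⟩ :=
      Basic.exists_minimal_normal_le (H := (⊤ : Subgroup G)) top_ne_bot
    haveI := hVn
    obtain ⟨hVc', r, hr, hVexp, -⟩ := Basic.minimal_normal_solvable V hV hVmin
    have hVc := Basic.isMulCommutative_subgroup_iff.1 hVc'
    haveI := Fact.mk hr
    have hV2 : 2 ≤ Nat.card V :=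
      Finite.one_lt_card_iff_nontrivial.2 ((Subgroup.nontrivial_iff_ne_bot V).2 hV)
    by_cases hpC : p ∣ (centralizer (V : Set G)).index
    · obtain ⟨W, i1, i2, i3, L, f, hf, hfk, hL, -, hkL⟩ := exists_rep V hVc hV hVmin hVexp
      haveI : Group.IsSolvable L := Group.isSolvable_of_surjective hf
      have hLcard : Nat.card L = (centralizer (V : Set G)).index := by
        rw [← hfk, Subgroup.index_ker, MonoidHom.range_eq_top.2 hf, card_top]
      by_cases hpF : p ∣ (Cfsg.fittingSubgroup L).index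
      · have hlt : Nat.card L ≤ n := by
          have h1 : V ≤ centralizer (V : Set G) := fun v hv =>
            mem_centralizer_iff.2 fun y hy => hVc y hy v hv
          have h2 := (centralizer (V : Set G)).card_mul_index
          have h3 : 2 ≤ Nat.card (centralizer (V : Set G)) := hV2.trans (card_le_of_le h1)
          have h4 := Nat.mul_le_mul_right (centralizer (V : Set G)).index h3
          have h5 : 0 < (centralizer (V : Set G)).index := Nat.pos_of_ne_zero index_ne_zero_of_finite
          rw [hLcard]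
          omega
        refine (ih L hlt inferInstance p hpF).trans ?_
        refine mul_le_mul_of_nonneg_left (Nat.cast_le.2 ((Nat.le_add_right _ _).trans hkL)) ?_
        have := log_ge_one hp.two_le
        linarith
      · refine (linear_bound (r := r) hL (p := p) (by omega) (hLcard.symm ▸ hpC) hpF).trans ?_
        refine mul_le_mul_of_nonneg_left (Nat.cast_le.2 hkL) ?_
        have := log_ge_one hp.two_le
        linarith
    · have hdvd' := dvd_index_quotient V hp hdvd hpC
      have hlt : Nat.card (G ⧸ V) ≤ n := by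
        have h2 := V.card_eq_card_quotient_mul_card_subgroup
        have h4 := Nat.mul_le_mul_left (Nat.card (G ⧸ V)) hV2
        have h5 : 0 < Nat.card (G ⧸ V) := Nat.card_pos
        omega
      refine (ih (G ⧸ V) hlt inferInstance p hdvd').trans ?_
      refine mul_le_mul_of_nonneg_left
        (Nat.cast_le.2 (classNum_le_of_surjective _ (QuotientGroup.mk'_surjective V))) ?_
      have := log_ge_one hp.two_le
      linarith

/-- The class number of a solvable group is at least `p / (3 log₂ p)` for `p ∣ |G : F(G)|`. -/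
theorem class_number_bound {G : Type u} [Group G] [Finite G] (hG : Group.IsSolvable G) (p : ℕ)
    [Fact p.Prime] (hp : p ∣ (Cfsg.fittingSubgroup G).index) :
    (p : ℝ) / (3 * Real.logb 2 p) ≤ Nat.card (ConjClasses G) := by
  have h1 := log_ge_one (Fact.out : p.Prime).two_le
  rw [div_le_iff₀ (by linarith), mul_comm]
  exact bound_aux _ G le_rfl hG p hp

end CfsgLib.Solvable.ClassBound
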