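import Mathlib

/-!
# Numerical bounds for linear groups of small dimension
-/

set_option autoImplicit false

namespace CfsgLib.Solvable.ClassBound

/-- `chainAux k n = n * (n / 2) * (n / 4) * ⋯`. -/
def chainAux : ℕ → ℕ → ℕ
  | 0, _ => 1
  | k + 1, n => if n ≤ 1 then 1 else n * chainAux k (n / 2)

/-- The product of the halvings of `n`. -/
def chain (n : ℕ) : ℕ := chainAux n n

theorem chainAux_eq' : ∀ k k' n : ℕ, n ≤ k → n ≤ k' → chainAux k n = chainAux k' n := by
  intro k
  induction k with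
  | zero =>
    intro k' n hn _
    obtain rfl : n = 0 := by omega
    rcases k' with _ | k' <;> rfl
  | succ k ih =>
    intro k' n hn hn'
    rcases k' with _ | k'
    · obtain rfl : n = 0 := by omega
      rfl
    · simp only [chainAux]
      split_ifs with h
      · rfl
      · rw [ih k' (n / 2) (by omega) (by omega)]

theorem chainAux_eq (k n : ℕ) (h : n ≤ k) : chainAux k n = chainAux n n :=
  chainAux_eq' k n n h le_rfl

theorem chain_of_le_one {n : ℕ} (hn : n ≤ 1) : chain n = 1 := by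
  rcases n with _ | _ | n
  · rfl
  · rfl
  · omega

theorem chain_step {n : ℕ} (hn : 1 < n) : chain n = n * chain (n / 2) := by
  rcases n with _ | n
  · omega
  show chainAux (n + 1) (n + 1) = _
  simp only [chainAux]
  rw [if_neg (by omega), chainAux_eq n _ (by omega)]
  rfl

theorem one_le_chain (n : ℕ) : 1 ≤ chain n := by
  induction n using Nat.strong_induction_on with
  | _ n ih =>
    by_cases hn : n ≤ 1
    · rw [chain_of_le_one hn]
    · rw [chain_step (by omega)]
      exact Nat.one_le_iff_ne_zero.2 (Nat.mul_ne_zero (by omega)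
        (Nat.one_le_iff_ne_zero.1 (ih _ (by omega))))

theorem chain_mono : ∀ {n m : ℕ}, n ≤ m → chain n ≤ chain m := by
  intro n
  induction n using Nat.strong_induction_on with
  | _ n ih =>
    intro m hm
    by_cases hn : n ≤ 1
    · rw [chain_of_le_one hn]; exact one_le_chain m
    · rw [chain_step (by omega), chain_step (by omega : 1 < m)]
      exact Nat.mul_le_mul hm (ih _ (by omega) (Nat.div_le_div_right hm))

theorem chain_sq_le : ∀ (k n : ℕ), n ≤ 2 ^ k → chain n ^ 2 ≤ 2 ^ (k * (k + 1)) := by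
  intro k
  induction k with
  | zero => intro n hn; simp [chain_of_le_one (show n ≤ 1 by simpa using hn)]
  | succ k ih =>
    intro n hn
    by_cases h1 : n ≤ 1
    · rw [chain_of_le_one h1, one_pow]; exact Nat.one_le_two_pow
    · rw [chain_step (by omega), mul_pow]
      refine (Nat.mul_le_mul (Nat.pow_le_pow_left hn 2)
        (ih (n / 2) (by rw [pow_succ] at hn; omega))).trans (le_of_eq ?_)
      rw [← pow_mul, ← pow_add]
      congr 1
      ring

/-- The bound for the index of the scalars in a primitive solvable group of dimension `w`. -/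
def indexBound (w : ℕ) : ℕ := w ^ 2 * max 1 ((w ^ 2 - 1) * chain (w ^ 2 / 2))

theorem indexBound_one : indexBound 1 = 1 := by decide

theorem indexBound_two : indexBound 2 = 24 := by decide

theorem indexBound_small : ∀ w : ℕ, w < 17 → 3 ≤ w → indexBound w ≤ 576 * 27 ^ (w - 3) := by
  decide +kernel

theorem quad_le : ∀ u : ℕ, 5 ≤ u → 2 * u * u + 3 * u ≤ 2 ^ (u + 1) + 1 := by
  intro u hu
  induction u, hu using Nat.le_induction with
  | base => norm_num
  | succ u hu ih =>
    have h1 : 4 * u + 5 ≤ 2 * u * u + 3 * u - 1 := by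
      have : 5 * u ≤ u * u := Nat.mul_le_mul_right u hu
      rw [mul_assoc]
      omega
    rw [pow_succ]
    have e : 2 * (u + 1) * (u + 1) + 3 * (u + 1) = 2 * u * u + 3 * u + (4 * u + 5) := by ring
    omega

theorem indexBound_le {w : ℕ} (hw : 3 ≤ w) : indexBound w ≤ 576 * 27 ^ (w - 3) := by
  by_cases h17 : w < 17
  · exact indexBound_small w h17 hw
  set u := Nat.clog 2 w with hu
  have hwu : w ≤ 2 ^ u := Nat.le_pow_clog one_lt_two w
  have hu5 : 5 ≤ u := by
    by_contra h
    have : 2 ^ u ≤ 2 ^ 4 := Nat.pow_le_pow_right (by norm_num) (by omega)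
    omega
  have hlow : 2 ^ (u - 1) < w := Nat.pow_pred_clog_lt_self one_lt_two (by omega)
  have hn : w ^ 2 ≤ 2 ^ (2 * u) := by rw [mul_comm, pow_mul]; exact Nat.pow_le_pow_left hwu 2
  have hhalf : w ^ 2 / 2 ≤ 2 ^ (2 * u - 1) := by
    have e : 2 ^ (2 * u) = 2 ^ (2 * u - 1) * 2 := by rw [← pow_succ]; congr 1; omega
    omega
  have hchain : chain (w ^ 2 / 2) ≤ 2 ^ ((2 * u - 1) * u) := by
    refine (Nat.pow_le_pow_iff_left (n := 2) (by norm_num)).1
      ((chain_sq_le _ _ hhalf).trans (le_of_eq ?_))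
    rw [← pow_mul, Nat.sub_add_cancel (by omega)]
    congr 1
    ring
  have hI : indexBound w ≤ 2 ^ (2 * u * u + 3 * u) := by
    have hm : max 1 ((w ^ 2 - 1) * chain (w ^ 2 / 2)) ≤ 2 ^ (2 * u + (2 * u - 1) * u) := by
      rw [pow_add]
      exact max_le (Nat.mul_le_mul Nat.one_le_two_pow Nat.one_le_two_pow)
        (Nat.mul_le_mul ((Nat.sub_le _ 1).trans hn) hchain)
    refine (Nat.mul_le_mul hn hm).trans (le_of_eq ?_)
    rw [← pow_add]
    congr 1
    obtain ⟨v, hv⟩ : ∃ v, u = v + 1 := ⟨u - 1, by omega⟩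
    rw [hv, show 2 * (v + 1) - 1 = 2 * v + 1 by omega]
    ring
  refine hI.trans ?_
  have e : (2 : ℕ) ^ (u + 1) = 4 * 2 ^ (u - 1) := by
    rw [show u + 1 = 2 + (u - 1) by omega, pow_add]; norm_num
  calc 2 ^ (2 * u * u + 3 * u) ≤ 2 ^ (9 + 4 * (w - 3)) :=
        Nat.pow_le_pow_right (by norm_num) (by have := quad_le u hu5; omega)
    _ = 2 ^ 9 * 16 ^ (w - 3) := by rw [pow_add, pow_mul]; norm_num
    _ ≤ 576 * 27 ^ (w - 3) :=
        Nat.mul_le_mul (by norm_num) (Nat.pow_le_pow_left (by norm_num) _)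

theorem indexBound_le_pow {w : ℕ} (hw : 1 ≤ w) : indexBound w ≤ 27 ^ (w - 1) := by
  rcases Nat.lt_or_ge w 3 with h | h
  · rcases (show w = 1 ∨ w = 2 by omega) with rfl | rfl
    · decide
    · decide
  · refine (indexBound_le h).trans ?_
    rw [show w - 1 = 2 + (w - 3) by omega, pow_add]
    exact Nat.mul_le_mul (by norm_num) (Nat.pow_le_pow_left (by norm_num) _)

theorem mul_indexBound_le {h w : ℕ} (hh : 1 ≤ h) (hw : 1 ≤ w) :
    h * indexBound w ≤ 27 ^ (h * w - 1) := by
  refine (Nat.mul_le_mul ((Nat.lt_pow_self (n := h - 1) (by norm_num : 1 < 27)).nat_succ_le.trans'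
    (by omega : h ≤ (h - 1).succ)) (indexBound_le_pow hw)).trans ?_
  rw [← pow_add]
  refine Nat.pow_le_pow_right (by norm_num) ?_
  have h2 : h + w ≤ h * w + 1 := by
    obtain ⟨a, rfl⟩ : ∃ a, h = a + 1 := ⟨h - 1, by omega⟩
    obtain ⟨b, rfl⟩ : ∃ b, w = b + 1 := ⟨w - 1, by omega⟩
    nlinarith
  omega

end CfsgLib.Solvable.ClassBound
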