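import Cfsg.Agent.Lib.Solvable.ClassBound.Primitive
import Cfsg.Agent.Lib.Solvable.ClassBound.Monomial

/-!
# Classes and orbits of solvable irreducible groups of dimension at least two
-/

set_option autoImplicit false
set_option linter.unusedSectionVars false
set_option linter.style.haveILetI false

namespace CfsgLib.Solvable.ClassBound

open Subgroup Module

theorem pow_numeric {q e M : ℕ} (he : 2 ≤ e) (hq : 2 ≤ q) (hM : M ≤ 576 * q ^ (e - 2)) :
    M * (q - 1) ^ 2 ≤ 576 * (q ^ e - 1) := by
  refine (Nat.mul_le_mul_right _ hM).trans ?_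
  rw [mul_assoc]
  refine Nat.mul_le_mul_left _ ?_
  have h1 : (q - 1) ^ 2 + 1 ≤ q ^ 2 := by
    obtain ⟨a, rfl⟩ : ∃ a, q = a + 1 := ⟨q - 1, by omega⟩
    rw [Nat.add_sub_cancel]
    nlinarith
  have h2 : 1 ≤ q ^ (e - 2) := Nat.one_le_pow _ _ (by omega)
  have h3 := Nat.mul_le_mul_left (q ^ (e - 2)) h1
  rw [mul_add, mul_one, ← pow_add, Nat.sub_add_cancel he] at h3
  omega

variable {F V : Type*} [Field F] [Finite F] [AddCommGroup V] [Module F V] [Finite V]
variable {L : Subgroup (V ≃ₗ[F] V)}

theorem primitive_bound {r : ℕ} [Fact r.Prime] [CharP F r] [Group.IsSolvable L] (hL : Irred L)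
    (hprim : ∀ B : Submodule F V, IsBlock L B → B = ⊤) (he : 2 ≤ finrank F V)
    (hq : 37 ≤ Nat.card F) :
    (Nat.card F - 1) ^ 2 ≤ 576 * (classNum L * vecOrbits L) := by
  obtain ⟨A, h, w, hA, hhw, hh, hw, hcard, hidx⟩ := exists_abelian_of_primitive (r := r) hL hprim
  haveI : Module.Finite F V := Module.Finite.of_finite
  set q := Nat.card F
  set I := h * indexBound w with hI
  set e := finrank F V with hedef
  have hk : Nat.card A ≤ I * classNum L :=
    (card_le_index_mul A hA).trans (Nat.mul_le_mul_right _ hidx)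
  have hnz : q ^ e - 1 ≤ vecOrbits L * (Nat.card A * I) := by
    refine le_trans (le_trans (le_of_eq ?_)
      (ncard_le_orbitsOn_mul_card (L := L) (Set.Subset.refl ({0}ᶜ : Set V))))
      (Nat.mul_le_mul_left _ ?_)
    · rw [Set.ncard_compl, Set.ncard_singleton, Module.natCard_eq_pow_finrank (K := F) (V := V)]
    · rw [← A.card_mul_index]
      exact Nat.mul_le_mul_left _ hidx
  have hk1 : 1 ≤ classNum L := classNum_pos
  obtain ⟨M, hMpos, hMle, hMk⟩ : ∃ M, 0 < M ∧ M ≤ 576 * q ^ (e - 2) ∧
      q ^ e - 1 ≤ M * (classNum L * vecOrbits L) := by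
    have hIpos : 0 < I := by
      have : 0 < indexBound w := Nat.mul_pos (Nat.pow_pos (by omega)) (by omega)
      exact Nat.mul_pos (by omega) this
    rcases Nat.lt_or_ge w 3 with hw3 | hw3
    · refine ⟨I * I, Nat.mul_pos hIpos hIpos, ?_, hnz.trans ?_⟩
      · obtain ⟨a, rfl⟩ : ∃ a, h = a + 1 := ⟨h - 1, by omega⟩
        have ha : a + 1 ≤ 2 ^ a := Nat.lt_two_pow_self
        have h4 : (a + 1) * (a + 1) ≤ 4 ^ a := by
          refine (Nat.mul_le_mul ha ha).trans (le_of_eq ?_)
          rw [← mul_pow]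
          norm_num
        rcases (show w = 1 ∨ w = 2 by omega) with rfl | rfl
        · rw [hI, indexBound_one, mul_one]
          obtain ⟨b, rfl⟩ : ∃ b, a = b + 1 := ⟨a - 1, by omega⟩
          refine h4.trans ?_
          rw [pow_succ, mul_comm]
          refine Nat.mul_le_mul (by norm_num) ((Nat.pow_le_pow_left (by omega : 4 ≤ q) b).trans
            (le_of_eq (by congr 1; omega)))
        · rw [hI, indexBound_two, show (a + 1) * 24 * ((a + 1) * 24) = 576 * ((a + 1) * (a + 1)) by ring]
          exact Nat.mul_le_mul_left _ (h4.trans ((Nat.pow_le_pow_left (by omega : 4 ≤ q) a).trans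
            (Nat.pow_le_pow_right (by omega) (by omega))))
      · calc vecOrbits L * (Nat.card A * I) ≤ vecOrbits L * (I * classNum L * I) :=
              Nat.mul_le_mul_left _ (Nat.mul_le_mul_right _ hk)
          _ = _ := by ring
    · refine ⟨q ^ h * I, Nat.mul_pos (Nat.pow_pos (by omega)) hIpos, ?_, hnz.trans ?_⟩
      · have hh2 : h ≤ q ^ ((h - 1) * (w - 1)) := by
          refine le_trans ?_ (Nat.pow_le_pow_right (by omega) (Nat.le_mul_of_pos_right _ (by omega)))
          have h5 : h - 1 < q ^ (h - 1) := Nat.lt_pow_self (by omega)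
          omega
        have hwI : indexBound w ≤ 576 * q ^ (w - 3) :=
          (indexBound_le hw3).trans (Nat.mul_le_mul_left _ (Nat.pow_le_pow_left (by omega) _))
        calc q ^ h * (h * indexBound w)
            ≤ q ^ h * (q ^ ((h - 1) * (w - 1)) * (576 * q ^ (w - 3))) :=
              Nat.mul_le_mul_left _ (Nat.mul_le_mul hh2 hwI)
          _ = 576 * q ^ (h + (h - 1) * (w - 1) + (w - 3)) := by rw [pow_add, pow_add]; ring
          _ = 576 * q ^ (e - 2) := by
            congr 2
            obtain ⟨a, rfl⟩ : ∃ a, h = a + 1 := ⟨h - 1, by omega⟩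
            obtain ⟨b, rfl⟩ : ∃ b, w = b + 3 := ⟨w - 3, by omega⟩
            rw [← hhw, show b + 3 - 1 = b + 2 by omega, Nat.add_sub_cancel, Nat.add_sub_cancel,
              show (a + 1) * (b + 3) = a * (b + 2) + a + b + 3 by ring]
            omega
      · calc vecOrbits L * (Nat.card A * I) ≤ vecOrbits L * (q ^ h * I) * classNum L :=
              (Nat.mul_le_mul_left _ (Nat.mul_le_mul_right _ (by omega))).trans
                (Nat.le_mul_of_pos_right _ hk1)
          _ = _ := by ring
  refine Nat.le_of_mul_le_mul_left ?_ hMpos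
  calc _ ≤ 576 * (q ^ e - 1) := pow_numeric he (by omega) hMle
    _ ≤ 576 * (M * (classNum L * vecOrbits L)) := Nat.mul_le_mul_left _ hMk
    _ = _ := by ring

/-- In dimension at least two the product of classes and orbits is large. -/
theorem plane_bound {r : ℕ} [Fact r.Prime] [CharP F r] [hsol : Group.IsSolvable L] (hL : Irred L)
    (he : 2 ≤ finrank F V) (hq : 37 ≤ Nat.card F) :
    (Nat.card F - 1) ^ 2 ≤ 576 * (classNum L * vecOrbits L) := by
  classical
  haveI : Module.Finite F V := Module.Finite.of_finite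
  have hex : ∃ n, ∃ B : Submodule F V, IsBlock L B ∧ 2 ≤ finrank F B ∧ finrank F B = n :=
    ⟨_, ⊤, hL.top_isBlock, by rwa [finrank_top], rfl⟩
  obtain ⟨B, hB, hB2, hBn⟩ := Nat.find_spec hex
  refine le_trans ?_ (Nat.mul_le_mul_left _ hB.classNum_mul_vecOrbits_le)
  haveI : Group.IsSolvable (blockGroup L B) :=
    Group.isSolvable_of_surjective (blockHom L B).rangeRestrict_surjective
  have hLB : Irred (blockGroup L B) := hB.irred_blockGroup hL
  have hsmall : ∀ D : Submodule F B, IsBlock (blockGroup L B) D → D = ⊤ ∨ finrank F D ≤ 1 := by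
    intro D hD
    by_contra hcon
    push Not at hcon
    obtain ⟨h1, h2⟩ := hB.refine_block hL hD
    have h3 := Nat.find_min' hex ⟨_, h1, by omega, rfl⟩
    refine hcon.1 (Submodule.eq_top_of_finrank_eq (le_antisymm D.finrank_le ?_))
    rw [hBn]; omega
  by_cases hp : ∀ D : Submodule F B, IsBlock (blockGroup L B) D → D = ⊤
  · exact primitive_bound (r := r) hLB hp hB2 hq
  push Not at hp
  obtain ⟨D, hD, hDtop⟩ := hp
  refine monomial_bound hLB hD ?_ hB2 hsmall hq
  have h1 := (hsmall D hD).resolve_left hDtop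
  have h2 : finrank F D ≠ 0 := fun h => hD.ne (Submodule.finrank_eq_zero.1 h)
  omega

end CfsgLib.Solvable.ClassBound
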