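import Cfsg.Agent.Lib.Solvable.ClassBound.Numeric

/-!
# The index of the scalars in a group with a self-centralising class two normal subgroup

If `E` is normal, commutators in `E` are scalars and only scalars centralise `E`, then the scalars
have index at most `indexBound w`, where `w` is the dimension.
-/

set_option autoImplicit false

namespace CfsgLib.Solvable.ClassBound

open Subgroup Module

variable {K V X : Type*} [Field K] [AddCommGroup V] [Module K V] [Finite V] [Group X] [Finite X]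

/-- Elements fixing each element of `S` up to a scalar. -/
def fixModulo (A : Subgroup X) (hA : ∀ a ∈ A, ∀ x : X, a * x = x * a) (S : Set X) : Subgroup X where
  carrier := {c | ∀ s ∈ S, c * s * c⁻¹ * s⁻¹ ∈ A}
  one_mem' := fun s _ => by simp
  mul_mem' {c d} hc hd s hs := by
    have e : c * d * s * (c * d)⁻¹ * s⁻¹ = (c * (d * s * d⁻¹ * s⁻¹) * c⁻¹) * (c * s * c⁻¹ * s⁻¹) := by
      group
    rw [e, ← hA _ (hd s hs), mul_inv_cancel_right]
    exact mul_mem (hd s hs) (hc s hs)
  inv_mem' {c} hc s hs := by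
    have e : c⁻¹ * s * c⁻¹⁻¹ * s⁻¹ = c⁻¹ * (c * s * c⁻¹ * s⁻¹)⁻¹ * c := by group
    rw [e, ← hA _ (inv_mem (hc s hs)), inv_mul_cancel_right]
    exact inv_mem (hc s hs)

theorem mem_fixModulo {A : Subgroup X} {hA : ∀ a ∈ A, ∀ x : X, a * x = x * a} {S : Set X} {c : X} :
    c ∈ fixModulo A hA S ↔ ∀ s ∈ S, c * s * c⁻¹ * s⁻¹ ∈ A := Iff.rfl

/-- The part of `E` centralising `S`. -/
def fixedPart (E : Subgroup X) (S : Set X) : Subgroup X := E ⊓ centralizer S

variable (A E : Subgroup X) [E.Normal] (hA : ∀ a ∈ A, ∀ x : X, a * x = x * a) (hAE : A ≤ E)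
  (hE : ∀ e ∈ E, ∀ f ∈ E, e * f * e⁻¹ * f⁻¹ ∈ A)
  (hC : ∀ x : X, (∀ e ∈ E, x * e = e * x) → x ∈ A)

include hE in
theorem shift_mem {S : Set X} (hS : S ⊆ E) {c : X} (hc : c ∈ fixModulo A hA S) {g : X} (hg : g ∈ E) :
    g⁻¹ * (c * g * c⁻¹) ∈ fixedPart E S := by
  refine Subgroup.mem_inf.2 ⟨E.mul_mem (E.inv_mem hg) (Normal.conj_mem ‹E.Normal› g hg c), ?_⟩
  refine mem_centralizer_iff.2 fun s hs => ?_
  set a := c * s * c⁻¹ * s⁻¹ with ha
  have haA : a ∈ A := hc s hs
  set t := g * s * g⁻¹ * s⁻¹ with ht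
  have htA : t ∈ A := hE g hg s (hS hs)
  have h1 : c⁻¹ * s * c = a⁻¹ * s := by
    have : c⁻¹ * (a * s) * c = s := by rw [ha]; group
    rw [show a * s = s * a from hA a haA s] at this
    calc c⁻¹ * s * c = c⁻¹ * (s * a) * (a⁻¹ * c) := by group
      _ = c⁻¹ * (s * a) * (c * a⁻¹) := by rw [hA a⁻¹ (inv_mem haA) c]
      _ = s * a⁻¹ := by rw [← mul_assoc, this]
      _ = a⁻¹ * s := (hA a⁻¹ (inv_mem haA) s).symm
  have hg' : g * s * g⁻¹ = t * s := by rw [ht]; group
  have h2 : (c * g * c⁻¹) * s * (c * g * c⁻¹)⁻¹ = t * s := by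
    calc (c * g * c⁻¹) * s * (c * g * c⁻¹)⁻¹ = c * (g * (c⁻¹ * s * c) * g⁻¹) * c⁻¹ := by group
      _ = c * (g * a⁻¹ * s * g⁻¹) * c⁻¹ := by rw [h1]; group
      _ = c * (a⁻¹ * (g * s * g⁻¹)) * c⁻¹ := by rw [← hA a⁻¹ (inv_mem haA) g]; group
      _ = c * (a⁻¹ * (t * s)) * c⁻¹ := by rw [hg']
      _ = c * (a⁻¹ * t) * s * c⁻¹ := by group
      _ = a⁻¹ * t * (c * s * c⁻¹) := by
        rw [← hA _ (mul_mem (inv_mem haA) htA) c]; group
      _ = a⁻¹ * t * (a * s) := by rw [ha]; group
      _ = a⁻¹ * (t * a) * s := by group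
      _ = a⁻¹ * (a * t) * s := by rw [← hA a haA t]
      _ = t * s := by group
  calc s * (g⁻¹ * (c * g * c⁻¹)) = g⁻¹ * (g * s * g⁻¹) * (c * g * c⁻¹) := by group
    _ = g⁻¹ * ((c * g * c⁻¹) * s * (c * g * c⁻¹)⁻¹) * (c * g * c⁻¹) := by rw [hg', h2]
    _ = g⁻¹ * (c * g * c⁻¹) * s := by group

include hA hAE in
theorem le_fixedPart {S : Set X} : A ≤ fixedPart E S := fun a ha =>
  ⟨hAE ha, mem_centralizer_iff.2 fun s _ => (hA a ha s).symm⟩

include hA hAE hE in
theorem fixModulo_le {S : Set X} (hS : S ⊆ E) (h : fixedPart E S ≤ A) :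
    fixModulo A hA S ≤ fixModulo A hA (E : Set X) := fun c hc f hf => by
  have h1 := h (shift_mem A E hA hE hS hc hf)
  have e : c * f * c⁻¹ * f⁻¹ = f * (f⁻¹ * (c * f * c⁻¹)) * f⁻¹ := by group
  rw [e, ← hA _ h1, mul_inv_cancel_right]
  exact h1

omit [E.Normal] in
theorem relIndex_le_of_map {H L : Subgroup X} (hHL : H ≤ L) {M : Type*} [Finite M] (f : L → M)
    (hf : ∀ x y : L, f x = f y → (x : X)⁻¹ * y ∈ H) : H.relIndex L ≤ Nat.card M := by
  rw [relIndex, Subgroup.index]
  refine Nat.card_le_card_of_injective (fun q => f (Quotient.out q)) fun q q' e => ?_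
  rw [← Quotient.out_eq q, ← Quotient.out_eq q']
  exact QuotientGroup.eq.2 (mem_subgroupOf.2 (by simpa using hf _ _ e))

include hAE hE in
theorem step {S : Set X} (hS : S ⊆ E) {g : X} (hg : g ∈ E) {z : X}
    (hz : z ∈ fixedPart E S) (hgz : g * z ≠ z * g) :
    (fixModulo A hA (insert g S)).relIndex (fixModulo A hA S) ≤ A.relIndex (fixedPart E S) ∧
      A.relIndex (fixedPart E (insert g S)) ≤ A.relIndex (fixedPart E S) / 2 ∧
      fixedPart E (insert g S) < fixedPart E S ∧
      fixModulo A hA (insert g S) ≤ fixModulo A hA S := by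
  have hmono : fixModulo A hA (insert g S) ≤ fixModulo A hA S :=
    fun c hc s hs => hc s (Set.mem_insert_of_mem g hs)
  have hle : fixedPart E (insert g S) ≤ fixedPart E S :=
    inf_le_inf_left E (centralizer_le (Set.subset_insert g S))
  have hlt : fixedPart E (insert g S) < fixedPart E S := by
    refine lt_of_le_not_ge hle fun h => hgz ?_
    exact (mem_centralizer_iff.1 (h hz).2 g (Set.mem_insert g S))
  refine ⟨?_, ?_, hlt, hmono⟩
  · set Z := fixedPart E S
    refine (relIndex_le_of_map hmono (M := Z ⧸ A.subgroupOf Z)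
      (fun c => QuotientGroup.mk ⟨_, shift_mem A E hA hE hS c.2 hg⟩) fun c d e => ?_).trans le_rfl
    have h1 := mem_subgroupOf.1 (QuotientGroup.eq.1 e)
    simp only [coe_mul, Subgroup.coe_inv] at h1
    intro s hs
    rcases Set.mem_insert_iff.1 hs with e0 | hs
    · have h2 : ((c : X) * g * (c : X)⁻¹)⁻¹ * ((d : X) * g * (d : X)⁻¹) ∈ A := by
        simpa [mul_assoc] using h1
      rw [e0]
      have e2 : (c : X)⁻¹ * d * g * ((c : X)⁻¹ * d)⁻¹ * g⁻¹ =
          g * ((c : X)⁻¹ * (((c : X) * g * (c : X)⁻¹)⁻¹ * ((d : X) * g * (d : X)⁻¹)) * c) * g⁻¹ := by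
        group
      rw [e2, ← hA _ h2, inv_mul_cancel_right, ← hA _ h2, mul_inv_cancel_right]
      exact h2
    · exact (fixModulo A hA S).mul_mem ((fixModulo A hA S).inv_mem c.2) d.2 s hs
  · rw [Nat.le_div_iff_mul_le two_pos,
      ← relIndex_mul_relIndex A _ _ (le_fixedPart A E hA hAE) hle]
    refine Nat.mul_le_mul_left _ ?_
    rcases Nat.lt_or_ge ((fixedPart E (insert g S)).relIndex (fixedPart E S)) 2 with h | h
    · exfalso
      have h0 : (fixedPart E (insert g S)).relIndex (fixedPart E S) ≠ 0 := by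
        rw [relIndex]; exact index_ne_zero_of_finite
      exact not_le_of_gt hlt (relIndex_eq_one.1 (by omega))
    · exact h

include hA hAE hE hC in
theorem relIndex_fix_le : ∀ (n : ℕ) (S : Set X), S ⊆ E → Nat.card (fixedPart E S) ≤ n →
    (fixModulo A hA (E : Set X)).relIndex (fixModulo A hA S) ≤ chain (A.relIndex (fixedPart E S)) := by
  intro n
  induction n with
  | zero => intro S _ h; exact absurd h (Nat.card_pos (α := fixedPart E S)).not_ge
  | succ n ih =>
    intro S hS hn
    by_cases h : fixedPart E S ≤ A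
    · refine le_trans (le_of_eq ?_) (one_le_chain _)
      exact relIndex_eq_one.2 (fixModulo_le A E hA hAE hE hS h)
    obtain ⟨z, hz, hzA⟩ := SetLike.not_le_iff_exists.1 h
    obtain ⟨g, hg, hgz⟩ : ∃ g ∈ E, g * z ≠ z * g := by
      by_contra hno
      push Not at hno
      exact hzA (hC z fun e he => (hno e he).symm)
    obtain ⟨h1, h2, hlt, hmono⟩ := step A E hA hAE hE hS hg hz hgz
    have hcard : Nat.card (fixedPart E (insert g S)) ≤ n := by
      by_contra hgt
      exact hlt.ne (eq_of_le_of_card_ge hlt.le (by omega))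
    have hsub : fixModulo A hA (E : Set X) ≤ fixModulo A hA (insert g S) :=
      fun c hc s hs => hc s (Set.insert_subset hg hS hs)
    have hbig : 1 < A.relIndex (fixedPart E S) := by
      have h0 : A.relIndex (fixedPart E S) ≠ 0 := by rw [relIndex]; exact index_ne_zero_of_finite
      by_contra hh
      exact h (relIndex_eq_one.1 (by omega))
    rw [← relIndex_mul_relIndex _ _ _ hsub hmono, chain_step hbig, mul_comm]
    exact Nat.mul_le_mul h1 ((ih _ (Set.insert_subset hg hS) hcard).trans (chain_mono h2))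

include hA hAE hE hC in
theorem index_fix_le :
    (fixModulo A hA (E : Set X)).index ≤
      max 1 ((A.relIndex E - 1) * chain (A.relIndex E / 2)) := by
  have hempty : fixedPart E (∅ : Set X) = E :=
    inf_eq_left.2 fun x _ => mem_centralizer_iff.2 fun s hs => absurd hs (Set.notMem_empty s)
  by_cases h : E ≤ A
  · refine le_trans (le_of_eq ?_) (le_max_left _ _)
    rw [index_eq_one, eq_top_iff]
    intro c _ e he
    have := hA e (h he) c
    rw [← this, mul_inv_cancel_right, mul_inv_cancel]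
    exact one_mem A
  obtain ⟨z, hz, hzA⟩ := SetLike.not_le_iff_exists.1 h
  obtain ⟨g, hg, hgz⟩ : ∃ g ∈ E, g * z ≠ z * g := by
    by_contra hno
    push Not at hno
    exact hzA (hC z fun e he => (hno e he).symm)
  have hgA : g ∉ A := fun hgA => hgz (hA g hgA z)
  have hS : (∅ : Set X) ⊆ (E : Set X) := Set.empty_subset _
  obtain ⟨-, h2, -, -⟩ := step A E hA hAE hE hS hg (by rw [hempty]; exact hz) hgz
  have hsub : fixModulo A hA (E : Set X) ≤ fixModulo A hA (insert g ∅) :=
    fun c hc s hs => hc s (Set.insert_subset hg hS hs)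
  refine le_trans ?_ (le_max_right _ _)
  rw [← relIndex_mul_index hsub, mul_comm]
  refine Nat.mul_le_mul ?_ ((relIndex_fix_le A E hA hAE hE hC _ _ (Set.insert_subset hg hS)
    le_rfl).trans (chain_mono (h2.trans (by rw [hempty]))))
  classical
  haveI : Fintype (E ⧸ A.subgroupOf E) := Fintype.ofFinite _
  let bad : E ⧸ A.subgroupOf E := QuotientGroup.mk ⟨g⁻¹, inv_mem hg⟩
  have hbad : Nat.card {q : E ⧸ A.subgroupOf E // q ≠ bad} = A.relIndex E - 1 := by
    rw [relIndex, Subgroup.index, Nat.card_eq_fintype_card, Nat.card_eq_fintype_card,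
      Fintype.card_subtype_compl, Fintype.card_subtype_eq]
  rw [← hbad, ← relIndex_top_right]
  refine relIndex_le_of_map le_top (fun c => ⟨QuotientGroup.mk
    ⟨_, mul_mem (inv_mem hg) (Normal.conj_mem ‹E.Normal› g hg (c : X))⟩, fun e => ?_⟩) fun c d e => ?_
  · have h1 := mem_subgroupOf.1 (QuotientGroup.eq.1 e)
    simp only [coe_mul, Subgroup.coe_inv] at h1
    refine hgA ?_
    have h2 : (c : X) * g⁻¹ * (c : X)⁻¹ ∈ A := by simpa [mul_assoc] using h1
    have h3 : g⁻¹ ∈ A := by
      have e3 : (c : X)⁻¹ * ((c : X) * g⁻¹ * (c : X)⁻¹) * c = g⁻¹ := by group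
      rw [← hA _ h2, inv_mul_cancel_right] at e3
      exact e3 ▸ h2
    exact inv_mem_iff.1 h3
  · have h1 := mem_subgroupOf.1 (QuotientGroup.eq.1 (congrArg Subtype.val e))
    simp only [coe_mul, Subgroup.coe_inv] at h1
    intro s hs
    rcases Set.mem_insert_iff.1 hs with e0 | hs
    · have h2 : ((c : X) * g * (c : X)⁻¹)⁻¹ * ((d : X) * g * (d : X)⁻¹) ∈ A := by
        simpa [mul_assoc] using h1
      rw [e0]
      have e2 : (c : X)⁻¹ * d * g * ((c : X)⁻¹ * d)⁻¹ * g⁻¹ =
          g * ((c : X)⁻¹ * (((c : X) * g * (c : X)⁻¹)⁻¹ * ((d : X) * g * (d : X)⁻¹)) * c) * g⁻¹ := by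
        group
      rw [e2, ← hA _ h2, inv_mul_cancel_right, ← hA _ h2, mul_inv_cancel_right]
      exact h2
    · exact absurd hs (Set.notMem_empty s)

include hA hC hAE hE in
/-- The bound on the index of the scalars. -/
theorem index_le_indexBound [Nontrivial V] (ρ : X →* Module.End K V)
    (hscal : ∀ a ∈ A, ∃ c : K, ρ a = c • (1 : Module.End K V))
    (hinj : ∀ x : X, ρ x = 1 → x = 1) :
    A.index ≤ indexBound (finrank K V) := by
  classical
  haveI : Module.Finite K V := Module.Finite.of_finite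
  set D := fixModulo A hA (E : Set X) with hD
  have hAD : A ≤ D := fun a ha e he => by
    rw [hA a ha e, mul_inv_cancel_right, mul_inv_cancel]
    exact one_mem A
  have hED : E ≤ D := fun e he f hf => hE e he f hf
  have hdim : A.relIndex D ≤ finrank K V ^ 2 := by
    haveI : Fintype (D ⧸ A.subgroupOf D) := Fintype.ofFinite _
    let r : D ⧸ A.subgroupOf D → X := fun q => ((Quotient.out q : D) : X)
    have hval : ∀ (q : D ⧸ A.subgroupOf D) (f : E), ∃ c : K,
        ρ f * ρ (r q) * ρ ((f : X)⁻¹) = c • ρ (r q) := by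
      intro q f
      have hm : (f : X) * r q * (f : X)⁻¹ * (r q)⁻¹ ∈ A := by
        have := inv_mem ((Quotient.out q : D).2 f f.2)
        simpa [r, mul_assoc] using this
      obtain ⟨c, hc⟩ := hscal _ hm
      refine ⟨c, ?_⟩
      rw [← map_mul, ← map_mul, show (f : X) * r q * (f : X)⁻¹ =
        ((f : X) * r q * (f : X)⁻¹ * (r q)⁻¹) * r q by group, map_mul, hc, smul_mul_assoc, one_mul]
    choose c hc using hval
    have hsep : ∀ q q', q ≠ q' → ∃ f : E, c q f ≠ c q' f := by
      intro q q' hne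
      by_contra hall
      push Not at hall
      refine hne ?_
      rw [← Quotient.out_eq q, ← Quotient.out_eq q']
      refine QuotientGroup.eq.2 (mem_subgroupOf.2 (hC _ fun e he => ?_))
      simp only [coe_mul, Subgroup.coe_inv]
      have hq : ∀ q : D ⧸ A.subgroupOf D,
          ρ ((e * r q * e⁻¹) * (r q)⁻¹) = c q ⟨e, he⟩ • (1 : Module.End K V) := fun q => by
        rw [map_mul, map_mul, map_mul, hc q ⟨e, he⟩, smul_mul_assoc, ← map_mul, mul_inv_cancel,
          map_one]
      have h1 : (e * r q * e⁻¹) * (r q)⁻¹ = (e * r q' * e⁻¹) * (r q')⁻¹ := by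
        refine inv_mul_eq_one.1 (hinj _ ?_)
        rw [map_mul, hq q', ← hall ⟨e, he⟩, ← hq q, ← map_mul, inv_mul_cancel, map_one]
      show (r q)⁻¹ * r q' * e = e * ((r q)⁻¹ * r q')
      have h2 : (r q)⁻¹ * r q' = e * ((r q)⁻¹ * r q') * e⁻¹ := by
        have haq : e * r q * e⁻¹ * (r q)⁻¹ ∈ A := by
          have := inv_mem ((Quotient.out q : D).2 e he)
          simpa [r, mul_assoc] using this
        set a := e * r q * e⁻¹ * (r q)⁻¹ with ha
        have e1 : e * r q * e⁻¹ = a * r q := by rw [ha]; group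
        have e2 : e * r q' * e⁻¹ = a * r q' := by rw [h1]; group
        calc (r q)⁻¹ * r q' = (a * r q)⁻¹ * (a * r q') := by group
          _ = (e * r q * e⁻¹)⁻¹ * (e * r q' * e⁻¹) := by rw [e1, e2]
          _ = _ := by group
      calc (r q)⁻¹ * r q' * e = e * ((r q)⁻¹ * r q') * e⁻¹ * e := by rw [← h2]
        _ = _ := by rw [inv_mul_cancel_right]
    have hli : LinearIndependent K fun q => ρ (r q) := by
      rw [linearIndependent_iff']
      intro s
      induction s using Finset.induction_on with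
      | empty => simp
      | insert j s hj ih =>
        intro g hg i hi
        have hs : ∀ i ∈ s, g i = 0 := fun i hi => by
          obtain ⟨f, hf⟩ := hsep i j (fun e => hj (e ▸ hi))
          have h1 : ∑ k ∈ insert j s, (g k * c k f) • ρ (r k) = 0 := by
            have := congrArg (fun T => ρ (f : X) * T * ρ ((f : X)⁻¹)) hg
            simp only [Finset.mul_sum, Finset.sum_mul, mul_zero, zero_mul] at this
            rw [← this]
            refine Finset.sum_congr rfl fun k _ => ?_
            rw [mul_smul_comm, smul_mul_assoc, hc, smul_smul]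
          have h2 : ∑ k ∈ s, (g k * (c k f - c j f)) • ρ (r k) = 0 := by
            have h3 : ∑ k ∈ insert j s, (g k * (c k f - c j f)) • ρ (r k) = 0 := by
              simp only [mul_sub, sub_smul, Finset.sum_sub_distrib, h1]
              simp only [mul_comm _ (c j f), mul_smul, ← Finset.smul_sum, hg, smul_zero, sub_zero]
            rwa [Finset.sum_insert hj, sub_self, mul_zero, zero_smul, zero_add] at h3
          exact (mul_eq_zero.1 (ih _ h2 i hi)).resolve_right (sub_ne_zero.2 hf)
        rcases Finset.mem_insert.1 hi with rfl | hi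
        · rw [Finset.sum_insert hj, Finset.sum_eq_zero (fun k hk => by rw [hs k hk, zero_smul]),
            add_zero] at hg
          refine (smul_eq_zero.1 hg).resolve_right fun h0 => ?_
          have h1 : ρ (r i) * ρ (r i)⁻¹ = 1 := by rw [← map_mul, mul_inv_cancel, map_one]
          rw [h0, zero_mul] at h1
          exact zero_ne_one h1
        · exact hs i hi
    rw [relIndex, Subgroup.index, Nat.card_eq_fintype_card]
    refine hli.fintype_card_le_finrank.trans (le_of_eq ?_)
    rw [Module.finrank_linearMap, sq]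
  have hE' : A.relIndex E ≤ finrank K V ^ 2 := by
    refine le_trans ?_ hdim
    rw [← relIndex_mul_relIndex A E D hAE hED]
    exact Nat.le_mul_of_pos_right _
      (Nat.pos_of_ne_zero (by rw [relIndex]; exact index_ne_zero_of_finite))
  rw [← relIndex_mul_index hAD, indexBound]
  refine Nat.mul_le_mul hdim ((index_fix_le A E hA hAE hE hC).trans (max_le_max le_rfl ?_))
  exact Nat.mul_le_mul (Nat.sub_le_sub_right hE' 1) (chain_mono (Nat.div_le_div_right hE'))

end CfsgLib.Solvable.ClassBound
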