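import Cfsg.Agent.Lib.Solvable.ClassBound.Blocks
import Cfsg.Agent.Lib.Solvable.ClassBound.ScalarIndex

/-!
# Primitive solvable linear groups

An irreducible solvable linear group without proper blocks has an abelian subgroup `A` of index at
most `h * indexBound w`, contained in the multiplicative group of a field of degree `h`, where
`h * w` is the dimension.
-/

set_option autoImplicit false
set_option linter.unusedSectionVars false
set_option linter.style.haveILetI false

namespace CfsgLib.Solvable.ClassBound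

open Subgroup Module

variable {F V : Type*} [Field F] [Finite F] [AddCommGroup V] [Module F V] [Finite V]
variable (L : Subgroup (V ≃ₗ[F] V))

/-- The inclusion into the endomorphisms. -/
def toEndHom : L →* Module.End F V where
  toFun g := ((g : V ≃ₗ[F] V) : V →ₗ[F] V)
  map_one' := rfl
  map_mul' _ _ := rfl

theorem toEndHom_apply (g : L) (v : V) : toEndHom L g v = (g : V ≃ₗ[F] V) v := rfl

theorem toEndHom_injective : Function.Injective (toEndHom L) := fun _ _ h =>
  Subtype.ext (LinearEquiv.toLinearMap_injective h)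

variable {L}

/-- A normal subgroup with an element of order the characteristic is not faithful irreducible. -/
theorem not_dvd_card_abelian {r : ℕ} [Fact r.Prime] [CharP F r] (hL : Irred L) (A : Subgroup L)
    [A.Normal] (hA : ∀ a ∈ A, ∀ b ∈ A, a * b = b * a) : ¬ r ∣ Nat.card A := by
  classical
  intro hdvd
  let Ω : Subgroup L :=
  { carrier := {a | a ∈ A ∧ a ^ r = 1}
    one_mem' := ⟨one_mem A, one_pow r⟩
    mul_mem' := fun {a b} ha hb =>
      ⟨mul_mem ha.1 hb.1, by rw [Commute.mul_pow (show Commute a b from hA a ha.1 b hb.1), ha.2, hb.2, one_mul]⟩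
    inv_mem' := fun {a} ha => ⟨inv_mem ha.1, by rw [inv_pow, ha.2, inv_one]⟩ }
  have hΩ : IsPGroup r Ω := fun a => ⟨1, Subtype.ext (by simpa using a.2.2)⟩
  let W : Submodule F V :=
  { carrier := {v | ∀ a ∈ Ω, (a : V ≃ₗ[F] V) v = v}
    add_mem' := fun {v w} hv hw a ha => by rw [map_add, hv a ha, hw a ha]
    zero_mem' := fun a _ => map_zero _
    smul_mem' := fun c v hv a ha => by rw [map_smul, hv a ha] }
  have hW : ∀ g ∈ L, ∀ w ∈ W, g w ∈ W := by
    intro g hg w hw a ha
    have hm : (⟨g, hg⟩ : L)⁻¹ * a * ⟨g, hg⟩ ∈ Ω := by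
      refine ⟨?_, ?_⟩
      · simpa using Normal.conj_mem ‹A.Normal› a ha.1 (⟨g, hg⟩ : L)⁻¹
      · rw [show (⟨g, hg⟩ : L)⁻¹ * a * ⟨g, hg⟩ = (⟨g, hg⟩ : L)⁻¹ * a * ((⟨g, hg⟩ : L)⁻¹)⁻¹ by
          rw [inv_inv], conj_pow, ha.2, mul_one, mul_inv_cancel]
    have h1 := congrArg g (hw _ hm)
    simpa using h1
  rcases hL.2 W hW with h | h
  · obtain ⟨v₀, hv₀⟩ := hL.1
    have hV : r ∣ Nat.card V := by
      haveI : Nontrivial V := ⟨⟨v₀, 0, hv₀⟩⟩
      haveI : Module.Finite F V := Module.Finite.of_finite
      haveI : Fintype F := Fintype.ofFinite F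
      rw [Module.natCard_eq_pow_finrank (K := F) (V := V)]
      refine dvd_pow ?_ (Module.finrank_pos (R := F) (M := V)).ne'
      obtain ⟨n, -, hn⟩ := FiniteField.card F r
      rw [Nat.card_eq_fintype_card, hn]
      exact dvd_pow_self r n.ne_zero
    have hm := hΩ.card_modEq_card_fixedPoints V
    have h0 : (0 : V) ∈ MulAction.fixedPoints Ω V := fun a =>
      map_zero ((a : L) : V ≃ₗ[F] V)
    have hone : MulAction.fixedPoints Ω V = {0} := by
      refine Set.eq_singleton_iff_unique_mem.2 ⟨h0, fun v hv => ?_⟩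
      exact (Submodule.mem_bot F).1 (h ▸ (fun a ha => hv ⟨a, ha⟩ : v ∈ W))
    rw [hone, Nat.card_coe_set_eq, Set.ncard_singleton] at hm
    exact (Fact.out : r.Prime).not_dvd_one ((Nat.modEq_zero_iff_dvd).1
      (hm.symm.trans ((Nat.modEq_zero_iff_dvd).2 hV)))
  · obtain ⟨a, ha⟩ := exists_prime_orderOf_dvd_card' r hdvd
    have ha1 : (a : L) ≠ 1 := fun e => (Fact.out : r.Prime).ne_one (by
      rw [← ha, orderOf_eq_one_iff]; exact Subtype.ext e)
    refine ha1 (Subtype.ext (LinearEquiv.ext fun v => ?_))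
    refine (show v ∈ W from h ▸ Submodule.mem_top) _ ⟨a.2, ?_⟩
    rw [← ha, ← orderOf_coe a, pow_orderOf_eq_one]

/-- The algebra spanned by a subgroup. -/
def spanAlg (A : Subgroup L) : Subalgebra F (Module.End F V) :=
  Algebra.adjoin F ((toEndHom L) '' (A : Set L))

theorem mem_spanAlg {A : Subgroup L} {a : L} (ha : a ∈ A) : toEndHom L a ∈ spanAlg A :=
  Algebra.subset_adjoin ⟨a, ha, rfl⟩

theorem commute_spanAlg {A : Subgroup L} {T : Module.End F V}
    (hT : ∀ a ∈ A, Commute T (toEndHom L a)) {x : Module.End F V} (hx : x ∈ spanAlg A) :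
    Commute T x := by
  induction hx using Algebra.adjoin_induction with
  | mem x hx =>
    obtain ⟨a, ha, rfl⟩ := hx
    exact hT a ha
  | algebraMap c => exact (Algebra.commutes c T).symm
  | add x y _ _ hx hy => exact hx.add_right hy
  | mul x y _ _ hx hy => exact hx.mul_right hy

theorem conj_spanAlg {A : Subgroup L} [A.Normal] (g : L) {x : Module.End F V} (hx : x ∈ spanAlg A) :
    toEndHom L g * x * toEndHom L g⁻¹ ∈ spanAlg A := by
  induction hx using Algebra.adjoin_induction with
  | mem x hx =>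
    obtain ⟨a, ha, rfl⟩ := hx
    rw [← map_mul, ← map_mul]
    exact mem_spanAlg (Normal.conj_mem ‹A.Normal› a ha g)
  | algebraMap c =>
    rw [← Algebra.commutes, mul_assoc, ← map_mul, mul_inv_cancel, map_one, mul_one]
    exact Subalgebra.algebraMap_mem _ c
  | add x y _ _ hx hy => rw [mul_add, add_mul]; exact add_mem hx hy
  | mul x y _ _ hx hy =>
    have e : toEndHom L g * (x * y) * toEndHom L g⁻¹ =
        (toEndHom L g * x * toEndHom L g⁻¹) * (toEndHom L g * y * toEndHom L g⁻¹) := by
      have h1 : toEndHom L g⁻¹ * toEndHom L g = 1 := by rw [← map_mul, inv_mul_cancel, map_one]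
      calc toEndHom L g * (x * y) * toEndHom L g⁻¹
          = toEndHom L g * x * 1 * y * toEndHom L g⁻¹ := by simp only [mul_one, mul_assoc]
        _ = _ := by rw [← h1]; simp only [mul_assoc]
    rw [e]
    exact mul_mem hx hy

/-- Conjugation on the algebra spanned by a normal subgroup. -/
def conjAlg (A : Subgroup L) [A.Normal] : L →* (spanAlg A ≃ₐ[F] spanAlg A) where
  toFun g :=
  { toFun := fun x => ⟨_, conj_spanAlg g x.2⟩
    invFun := fun x => ⟨_, conj_spanAlg g⁻¹ x.2⟩
    left_inv := fun x => Subtype.ext (by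
      show toEndHom L g⁻¹ * (toEndHom L g * x * toEndHom L g⁻¹) * toEndHom L g⁻¹⁻¹ = x
      rw [inv_inv, ← mul_assoc, ← mul_assoc, ← map_mul, inv_mul_cancel, map_one, one_mul,
        mul_assoc, ← map_mul, inv_mul_cancel, map_one, mul_one])
    right_inv := fun x => Subtype.ext (by
      show toEndHom L g * (toEndHom L g⁻¹ * x * toEndHom L g⁻¹⁻¹) * toEndHom L g⁻¹ = x
      rw [inv_inv, ← mul_assoc, ← mul_assoc, ← map_mul, mul_inv_cancel, map_one, one_mul,
        mul_assoc, ← map_mul, mul_inv_cancel, map_one, mul_one])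
    map_mul' := fun x y => Subtype.ext (by
      show toEndHom L g * ((x : Module.End F V) * y) * toEndHom L g⁻¹ =
        (toEndHom L g * x * toEndHom L g⁻¹) * (toEndHom L g * y * toEndHom L g⁻¹)
      have h1 : toEndHom L g⁻¹ * toEndHom L g = 1 := by rw [← map_mul, inv_mul_cancel, map_one]
      calc toEndHom L g * ((x : Module.End F V) * y) * toEndHom L g⁻¹
          = toEndHom L g * x * 1 * y * toEndHom L g⁻¹ := by simp only [mul_one, mul_assoc]
        _ = _ := by rw [← h1]; simp only [mul_assoc])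
    map_add' := fun x y => Subtype.ext (by
      show toEndHom L g * ((x : Module.End F V) + y) * toEndHom L g⁻¹ = _
      rw [mul_add, add_mul]; rfl)
    commutes' := fun c => Subtype.ext (by
      show toEndHom L g * algebraMap F (Module.End F V) c * toEndHom L g⁻¹ = _
      rw [← Algebra.commutes, mul_assoc, ← map_mul, mul_inv_cancel, map_one, mul_one]
      rfl) }
  map_one' := AlgEquiv.ext fun x => Subtype.ext (by
    show toEndHom L 1 * (x : Module.End F V) * toEndHom L 1⁻¹ = x
    rw [inv_one, map_one, one_mul, mul_one])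
  map_mul' g h := AlgEquiv.ext fun x => Subtype.ext (by
    show toEndHom L (g * h) * (x : Module.End F V) * toEndHom L (g * h)⁻¹ =
      toEndHom L g * (toEndHom L h * x * toEndHom L h⁻¹) * toEndHom L g⁻¹
    rw [mul_inv_rev, map_mul, map_mul]
    simp only [mul_assoc])

theorem conjAlg_apply (A : Subgroup L) [A.Normal] (g : L) (x : spanAlg A) :
    ((conjAlg A g x : spanAlg A) : Module.End F V) = toEndHom L g * x * toEndHom L g⁻¹ := rfl

theorem mem_ker_conjAlg {A : Subgroup L} [A.Normal] {g : L} :
    g ∈ (conjAlg A).ker ↔ ∀ a ∈ A, g * a = a * g := by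
  constructor
  · intro hg a ha
    have h1 : ((conjAlg A g ⟨_, mem_spanAlg ha⟩ : spanAlg A) : Module.End F V) = toEndHom L a := by
      rw [MonoidHom.mem_ker.1 hg]; rfl
    rw [conjAlg_apply, ← map_mul, ← map_mul] at h1
    exact mul_inv_eq_iff_eq_mul.1 (toEndHom_injective L h1)
  · intro hg
    refine MonoidHom.mem_ker.2 (AlgEquiv.ext fun x => Subtype.ext ?_)
    show toEndHom L g * (x : Module.End F V) * toEndHom L g⁻¹ = x
    rw [(commute_spanAlg (T := toEndHom L g) (fun a ha => by
      rw [Commute, SemiconjBy, ← map_mul, ← map_mul, hg a ha]) x.2).eq, mul_assoc, ← map_mul,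
      mul_inv_cancel, map_one, mul_one]

/-- Idempotents in the algebra of a normal abelian subgroup are trivial without proper blocks. -/
theorem idempotent_eq_one (hL : Irred L) (hprim : ∀ B : Submodule F V, IsBlock L B → B = ⊤)
    {A : Subgroup L} [A.Normal] (hA : ∀ a ∈ A, ∀ b ∈ A, a * b = b * a) {e : Module.End F V}
    (he : e ∈ spanAlg A) (hee : e * e = e) (he0 : e ≠ 0) : e = 1 := by
  classical
  have hcomm : ∀ x ∈ spanAlg A, ∀ y ∈ spanAlg A, Commute x y := fun x hx y hy =>
    commute_spanAlg (fun a ha => (commute_spanAlg (fun b hb => by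
      rw [Commute, SemiconjBy, ← map_mul, ← map_mul, hA a ha b hb]) hx).symm) hy
  let P : ℕ → Prop := fun n => ∃ f ∈ spanAlg A, f * f = f ∧ f ≠ 0 ∧
    finrank F (LinearMap.range f) = n
  have hex : ∃ n, P n := ⟨_, e, he, hee, he0, rfl⟩
  obtain ⟨f, hf, hff, hf0, hfn⟩ := Nat.find_spec hex
  have hrange : ∀ T : Module.End F V, T * T = T → ∀ v, v ∈ LinearMap.range T ↔ T v = v := by
    intro T hT v
    refine ⟨?_, fun h => ⟨v, h⟩⟩
    rintro ⟨w, rfl⟩
    exact LinearMap.congr_fun hT w
  set t : L → Module.End F V := fun g => toEndHom L g * f * toEndHom L g⁻¹ with ht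
  have htf : ∀ g, t g ∈ spanAlg A := fun g => conj_spanAlg g hf
  have htt : ∀ g, t g * t g = t g := fun g => by
    have := congrArg (fun x : spanAlg A => (x : Module.End F V))
      (map_mul (conjAlg A g) ⟨f, hf⟩ ⟨f, hf⟩)
    have e1 : (⟨f, hf⟩ * ⟨f, hf⟩ : spanAlg A) = ⟨f, hf⟩ := Subtype.ext hff
    rw [e1] at this
    exact this.symm
  have himg : ∀ g : L, img (g : V ≃ₗ[F] V) (LinearMap.range f) = LinearMap.range (t g) := fun g => by
    have h1 : ∀ y, (g : V ≃ₗ[F] V).symm ((g : V ≃ₗ[F] V) y) = y := fun y =>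
      LinearEquiv.symm_apply_apply _ y
    ext v
    rw [hrange _ (htt g), mem_img]
    constructor
    · rintro ⟨b, hb, rfl⟩
      show (g : V ≃ₗ[F] V) (f ((g : V ≃ₗ[F] V).symm ((g : V ≃ₗ[F] V) b))) = _
      rw [h1, (hrange f hff b).1 hb]
    · intro h
      exact ⟨f ((g : V ≃ₗ[F] V).symm v), ⟨_, rfl⟩, h⟩
  have hort : ∀ g g' : L, LinearMap.range (t g) ≠ LinearMap.range (t g') → t g * t g' = 0 := by
    intro g g' hne
    by_contra h0
    have hc : Commute (t g) (t g') := hcomm _ (htf g) _ (htf g')
    have hid : (t g * t g') * (t g * t g') = t g * t g' := by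
      rw [hc.symm.mul_mul_mul_comm, htt, htt]
    have hmin : finrank F (LinearMap.range f) ≤ finrank F (LinearMap.range (t g * t g')) := by
      rw [hfn]
      exact Nat.find_min' hex ⟨_, mul_mem (htf g) (htf g'), hid, h0, rfl⟩
    have h1 : LinearMap.range (t g * t g') ≤ LinearMap.range (t g) := LinearMap.range_comp_le_range _ _
    have h2 : LinearMap.range (t g * t g') ≤ LinearMap.range (t g') := by
      rw [hc.eq]; exact LinearMap.range_comp_le_range _ _
    refine hne ((Submodule.eq_of_le_of_finrank_le h1 ?_).symm.trans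
      (Submodule.eq_of_le_of_finrank_le h2 ?_))
    · rw [← himg g, finrank_img]; exact hmin
    · rw [← himg g', finrank_img]; exact hmin
  have hB : IsBlock L (LinearMap.range f) := by
    have hne : LinearMap.range f ≠ ⊥ := fun h => hf0 (LinearMap.range_eq_bot.1 h)
    refine ⟨hne, hL.span hne, ?_⟩
    haveI : Fintype (blocks L (LinearMap.range f)) := Fintype.ofFinite _
    have hrep : ∀ i : blocks L (LinearMap.range f), ∃ g : L,
        LinearMap.range (t g) = (i : Submodule F V) := fun i => by
      obtain ⟨g, hg⟩ := i.2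
      exact ⟨g, (himg g).symm.trans hg⟩
    choose rep hrep using hrep
    let Φ : (∀ i : blocks L (LinearMap.range f), (i : Submodule F V)) →ₗ[F] V :=
      ∑ i : blocks L (LinearMap.range f),
        (Submodule.subtype (i : Submodule F V)).comp (LinearMap.proj i)
    have hinj : Function.Injective Φ := by
      rw [injective_iff_map_eq_zero]
      intro x hx
      funext j
      apply Subtype.ext
      have hj : ∀ i, t (rep j) (x i : V) = if i = j then (x i : V) else 0 := fun i => by
        have hxi : (x i : V) ∈ LinearMap.range (t (rep i)) := (hrep i).symm ▸ (x i).2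
        split_ifs with h
        · subst h
          exact (hrange _ (htt _) _).1 hxi
        · rw [← (hrange _ (htt _) _).1 hxi, ← Module.End.mul_apply, hort _ _ (fun e => h ?_)]
          · rfl
          · exact Subtype.ext (by rw [← hrep i, ← hrep j, e])
      have := congrArg (t (rep j)) hx
      simp only [Φ, LinearMap.sum_apply, LinearMap.comp_apply, LinearMap.proj_apply,
        Submodule.subtype_apply, map_sum, map_zero, hj, Finset.sum_ite_eq', Finset.mem_univ,
        if_true] at this
      simpa using this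
    have h1 := LinearMap.finrank_le_finrank_of_injective hinj
    rw [Module.finrank_pi_fintype, Finset.sum_const_nat (m := finrank F (LinearMap.range f)),
      Finset.card_univ, ← Nat.card_eq_fintype_card, Nat.card_coe_set_eq] at h1
    · exact h1
    · rintro ⟨_, g, rfl⟩ -
      exact finrank_img _ _
  have hf1 : ∀ v, f v = v := fun v => (hrange f hff v).1 (hprim _ hB ▸ Submodule.mem_top)
  have htop : finrank F (LinearMap.range e) = finrank F V := by
    refine le_antisymm (Submodule.finrank_le _) ?_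
    rw [← finrank_top (R := F) (M := V), ← hprim _ hB, hfn]
    exact Nat.find_min' hex ⟨e, he, hee, he0, rfl⟩
  refine LinearMap.ext fun v => ?_
  exact (hrange e hee v).1 ((Submodule.eq_top_of_finrank_eq htop).symm ▸ Submodule.mem_top)

/-- The structure of a primitive solvable group. -/
theorem exists_abelian_of_primitive {r : ℕ} [Fact r.Prime] [CharP F r] [hsol : Group.IsSolvable L]
    (hL : Irred L) (hprim : ∀ B : Submodule F V, IsBlock L B → B = ⊤) :
    ∃ (A : Subgroup L) (h w : ℕ), (∀ a ∈ A, ∀ b ∈ A, a * b = b * a) ∧ h * w = finrank F V ∧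
      1 ≤ h ∧ 1 ≤ w ∧ Nat.card A + 1 ≤ Nat.card F ^ h ∧ A.index ≤ h * indexBound w := by
  classical
  obtain ⟨v₀, hv₀⟩ := hL.1
  haveI : Nontrivial V := ⟨⟨v₀, 0, hv₀⟩⟩
  haveI : Module.Finite F V := Module.Finite.of_finite
  obtain ⟨A, ⟨hAn, hA⟩, hAmax⟩ := (Set.toFinite {A : Subgroup L | A.Normal ∧
    ∀ a ∈ A, ∀ b ∈ A, a * b = b * a}).exists_maximal ⟨⊥, inferInstance, fun a ha b hb => by
      rw [mem_bot.1 ha, mem_bot.1 hb]⟩
  haveI := hAn
  let R := spanAlg A
  have hcomm : ∀ x y : R, x * y = y * x := fun x y => Subtype.ext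
    (commute_spanAlg (fun a ha => (commute_spanAlg (fun b hb => by
      rw [Commute, SemiconjBy, ← map_mul, ← map_mul, hA a ha b hb]) x.2).symm) y.2).eq
  letI : CommRing R := { (inferInstance : Ring R) with mul_comm := hcomm }
  haveI : Finite R := Finite.of_injective (fun x : R => ((x : Module.End F V) : V → V))
    (DFunLike.coe_injective.comp Subtype.val_injective)
  haveI : Nontrivial R := ⟨⟨1, 0, fun h => by
    have := LinearMap.congr_fun (congrArg Subtype.val h) v₀
    exact hv₀ this⟩⟩
  haveI : CharP R r := charP_of_injective_algebraMap (algebraMap F R).injective r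
  haveI : ExpChar R r := ExpChar.prime Fact.out
  haveI : Fintype F := Fintype.ofFinite F
  obtain ⟨n, -, hn⟩ := FiniteField.card F r
  have hcop : (r).Coprime (Nat.card A) :=
    ((Fact.out : r.Prime).coprime_iff_not_dvd).2 (not_dvd_card_abelian hL A hA)
  set m := (Nat.card A).totient with hm
  set Q := Fintype.card F ^ m with hQ
  have hQ1 : 1 < Q := Nat.one_lt_pow (Nat.totient_pos.2 Nat.card_pos).ne' Fintype.one_lt_card
  have hpowA : ∀ a ∈ A, toEndHom L a ^ Q = toEndHom L a := fun a ha => by
    have h1 : Q ≡ 1 [MOD Nat.card A] := by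
      refine Nat.ModEq.pow_totient ?_
      rw [hn]; exact hcop.pow_left _
    have h2 : a ^ Q = a := by
      have h3 : (⟨a, ha⟩ : A) ^ Q = ⟨a, ha⟩ ^ 1 := by
        rw [pow_eq_pow_iff_modEq]
        exact h1.of_dvd (orderOf_dvd_natCard _)
      simpa using congrArg Subtype.val h3
    rw [← map_pow, h2]
  have hQr : Q = r ^ ((n : ℕ) * m) := by rw [hQ, hn, ← pow_mul]
  have hpow : ∀ x : R, x ^ Q = x := by
    rintro ⟨x, hx⟩
    induction hx using Algebra.adjoin_induction with
    | mem x hx =>
      obtain ⟨a, ha, rfl⟩ := hx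
      exact Subtype.ext (by simpa using hpowA a ha)
    | algebraMap c =>
      have h1 : (algebraMap F R c) ^ Q = algebraMap F R c := by
        rw [← map_pow, hQ, FiniteField.pow_card_pow]
      exact h1
    | add x y hx hy ihx ihy =>
      have h1 : ((⟨x, hx⟩ : R) + ⟨y, hy⟩) ^ Q = ⟨x, hx⟩ + ⟨y, hy⟩ := by
        rw [hQr, add_pow_char_pow, ← hQr, ihx, ihy]
      exact h1
    | mul x y hx hy ihx ihy =>
      have h1 : ((⟨x, hx⟩ : R) * ⟨y, hy⟩) ^ Q = ⟨x, hx⟩ * ⟨y, hy⟩ := by
        rw [mul_pow, ihx, ihy]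
      exact h1
  have hfield : IsField R := by
    refine ⟨⟨0, 1, zero_ne_one⟩, mul_comm, fun {x} hx0 => ⟨x ^ (Q - 2), ?_⟩⟩
    have e1 : x ^ (Q - 1) * x = x := by rw [← pow_succ, Nat.sub_add_cancel hQ1.le, hpow]
    have hid : x ^ (Q - 1) * x ^ (Q - 1) = x ^ (Q - 1) := by
      have h2 : x ^ (Q - 1) = x ^ (Q - 2) * x := by
        rw [← pow_succ]; congr 1; omega
      conv_lhs => arg 2; rw [h2]
      conv_rhs => rw [h2]
      rw [mul_comm (x ^ (Q - 2)) x, ← mul_assoc, e1]
    have hne : (x ^ (Q - 1) : R) ≠ 0 := fun h => hx0 (by rw [← e1, h, zero_mul])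
    have hone := idempotent_eq_one hL hprim hA (x ^ (Q - 1)).2 (congrArg Subtype.val hid)
      (fun h => hne (Subtype.ext h))
    rw [← pow_succ', show Q - 2 + 1 = Q - 1 by omega]
    exact Subtype.ext hone
  letI : Field R := hfield.toField
  haveI : Module.Finite F R := Module.Finite.of_finite
  haveI : Module.Finite R V := Module.Finite.of_finite
  set h := finrank F R with hh
  set w := finrank R V with hw
  have hhpos : 1 ≤ h := Module.finrank_pos
  have hwpos : 1 ≤ w := Module.finrank_pos
  have hhw : h * w = finrank F V := Module.finrank_mul_finrank F R V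
  have hcardA : Nat.card A + 1 ≤ Nat.card F ^ h := by
    rw [← Module.natCard_eq_pow_finrank (K := F) (V := R), ← Finite.card_option]
    refine Nat.card_le_card_of_injective
      (fun o : Option A => o.elim (0 : R) fun a => ⟨_, mem_spanAlg a.2⟩) ?_
    intro o o' e
    have hne : ∀ a : A, (⟨_, mem_spanAlg a.2⟩ : R) ≠ 0 := fun a e0 => by
      have := LinearMap.congr_fun (congrArg Subtype.val e0) v₀
      exact hv₀ ((map_eq_zero_iff _ ((a : L) : V ≃ₗ[F] V).injective).1 this)
    rcases o with _ | a <;> rcases o' with _ | a'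
    · rfl
    · exact absurd e.symm (hne a')
    · exact absurd e (hne a)
    · exact congrArg some (Subtype.ext (toEndHom_injective L (congrArg Subtype.val e)))
  refine ⟨A, h, w, hA, hhw, hhpos, hwpos, hcardA, ?_⟩
  set X := (conjAlg A).ker with hX
  have hAX : A ≤ X := fun a ha => mem_ker_conjAlg.2 fun b hb => hA a ha b hb
  have hXidx : X.index ≤ h := by
    rw [hX, Subgroup.index_ker]
    refine le_trans (Nat.card_le_card_of_injective Subtype.val Subtype.val_injective) ?_
    rw [Nat.card_eq_fintype_card]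
    exact AlgEquiv.card_le (F := F) (K := R)
  obtain ⟨E, ⟨hEn, hAE, hEX, hEc⟩, hEmax⟩ := (Set.toFinite {E : Subgroup L | E.Normal ∧ A ≤ E ∧
    E ≤ X ∧ ∀ e ∈ E, ∀ f ∈ E, e * f * e⁻¹ * f⁻¹ ∈ A}).exists_maximal ⟨A, hAn, le_rfl, hAX,
      fun e he f hf => mul_mem (mul_mem (mul_mem he hf) (inv_mem he)) (inv_mem hf)⟩
  haveI := hEn
  have hC : X ⊓ centralizer (E : Set L) ≤ A := by
    set C := X ⊓ centralizer (E : Set L) with hCdef
    haveI : C.Normal := by rw [hCdef]; infer_instance
    by_contra hCA
    let D : ℕ → Subgroup L := fun k => Nat.rec C (fun _ P => ⁅P, P⁆) k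
    have hDn : ∀ k, (D k).Normal := fun k => by
      induction k with
      | zero => exact ‹C.Normal›
      | succ k ih => exact @Subgroup.commutator_normal L _ _ _ ih ih
    have hDd : ∀ k, D k ≤ derivedSeries L k := fun k => by
      induction k with
      | zero => exact le_top
      | succ k ih => exact commutator_mono ih ih
    have hDC : ∀ k, D k ≤ C := fun k => by
      induction k with
      | zero => exact le_rfl
      | succ k ih =>
        haveI := ‹C.Normal›
        exact (commutator_mono ih ih).trans (commutator_le_left C C)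
    obtain ⟨k₀, hk₀⟩ := (isSolvable_def (G := L)).1 hsol
    have hex : ∃ k, D k ≤ A := ⟨k₀, (hDd k₀).trans (hk₀ ▸ bot_le)⟩
    obtain ⟨k, hk⟩ : ∃ k, Nat.find hex = k + 1 := by
      rcases hk : Nat.find hex with _ | k
      · have := Nat.find_spec hex
        rw [hk] at this
        exact absurd this hCA
      · exact ⟨k, hk⟩
    have hk1 : ⁅D k, D k⁆ ≤ A := by
      have := Nat.find_spec hex
      rwa [hk] at this
    have hk2 : ¬ D k ≤ A := Nat.find_min hex (by omega)
    haveI := hDn k
    have hAc : ∀ a ∈ A, ∀ x ∈ X, a * x = x * a := fun a ha x hx =>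
      (mem_ker_conjAlg.1 hx a ha).symm
    have hDE : D k ≤ E := by
      refine le_trans le_sup_right (hEmax (y := E ⊔ D k) ⟨@Subgroup.sup_normal _ _ E (D k) hEn (hDn k), hAE.trans le_sup_left,
        sup_le hEX ((hDC k).trans inf_le_left), ?_⟩ le_sup_left)
      intro x hx y hy
      obtain ⟨e, he, d, hd, rfl⟩ := (mem_sup_of_normal_right (s := E) (t := D k) (ht := hDn k)).1 hx
      obtain ⟨f, hf, c, hc, rfl⟩ := (mem_sup_of_normal_right (s := E) (t := D k) (ht := hDn k)).1 hy
      have hcd : ∀ u ∈ D k, ∀ z ∈ E, z * u = u * z := fun u hu z hz =>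
        mem_centralizer_iff.1 ((hDC k hu).2) z hz
      have h1 : e * d * (f * c) * (e * d)⁻¹ * (f * c)⁻¹ =
          (e * f * e⁻¹ * f⁻¹) * (d * c * d⁻¹ * c⁻¹) := by
        have q1 : d * f = f * d := (hcd d hd f hf).symm
        calc e * d * (f * c) * (e * d)⁻¹ * (f * c)⁻¹
            = e * (d * f) * c * d⁻¹ * e⁻¹ * c⁻¹ * f⁻¹ := by group
          _ = e * f * ((d * c * d⁻¹) * e⁻¹) * c⁻¹ * f⁻¹ := by rw [q1]; group
          _ = e * f * e⁻¹ * ((d * c * d⁻¹ * c⁻¹) * f⁻¹) := by
            rw [← hcd _ (mul_mem (mul_mem hd hc) (inv_mem hd)) _ (inv_mem he)]; group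
          _ = _ := by
            rw [← hcd _ (mul_mem (mul_mem (mul_mem hd hc) (inv_mem hd)) (inv_mem hc)) _
              (inv_mem hf)]; group
      rw [h1]
      exact mul_mem (hEc e he f hf) (hk1 (commutator_mem_commutator hd hc))
    refine hk2 ((le_inf hDE (hDC k)).trans (hAmax (y := E ⊓ C) ⟨Subgroup.normal_inf_normal E C, ?_⟩ ?_))
    · intro x hx y hy
      exact (mem_centralizer_iff.1 hy.2.2 x hx.1)
    · intro a ha
      exact ⟨hAE ha, hAX ha, mem_centralizer_iff.2 fun z hz => (hAc a ha z (hEX hz)).symm⟩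
  let ρ : X →* Module.End R V :=
  { toFun := fun g =>
    { toFun := fun v => ((g : L) : V ≃ₗ[F] V) v
      map_add' := map_add _
      map_smul' := fun x v => by
        have hc : Commute (toEndHom L g) (x : Module.End F V) :=
          commute_spanAlg (fun a ha => by
            rw [Commute, SemiconjBy, ← map_mul, ← map_mul, mem_ker_conjAlg.1 g.2 a ha]) x.2
        exact LinearMap.congr_fun hc.eq v }
    map_one' := rfl
    map_mul' := fun _ _ => rfl }
  have hmain : (A.subgroupOf X).index ≤ indexBound w := by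
    refine index_le_indexBound (A.subgroupOf X) (E.subgroupOf X) ?_ ?_ ?_ ?_ ρ ?_ ?_
    · exact fun a ha x => Subtype.ext (mem_ker_conjAlg.1 x.2 a (mem_subgroupOf.1 ha)).symm
    · exact fun a ha => mem_subgroupOf.2 (hAE (mem_subgroupOf.1 ha))
    · exact fun e he f hf => mem_subgroupOf.2
        (by simpa using hEc _ (mem_subgroupOf.1 he) _ (mem_subgroupOf.1 hf))
    · exact fun x hx => mem_subgroupOf.2 (hC ⟨x.2, mem_centralizer_iff.2 fun e he =>
        (congrArg Subtype.val (hx ⟨e, hEX he⟩ (mem_subgroupOf.2 he))).symm⟩)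
    · exact fun a ha => ⟨⟨_, mem_spanAlg (mem_subgroupOf.1 ha)⟩, LinearMap.ext fun v => rfl⟩
    · exact fun x hx => Subtype.ext (Subtype.ext (LinearEquiv.ext fun v => LinearMap.congr_fun hx v))
  rw [← relIndex_mul_index hAX, mul_comm]
  exact Nat.mul_le_mul hXidx hmain

end CfsgLib.Solvable.ClassBound
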